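import Groth.Agent.S1524
import Groth.Agent.S1528
import Groth.Agent.S0007
import Groth.Agent.S0047
import Groth.Agent.EtpbcA.CdFinDim
import Groth.Agent.Fga.TwistCoh
import Groth.Agent.Fga.TensorList
import Groth.Agent.Fga.HodgePush
import Groth.Agent.Fdesc.StructMod
import Groth.Agent.VarietyA.EulerFinite
import Groth.Agent.VarietyB.HHPush
import Groth.Agent.CurvesC.CurveNum
import Groth.Prelude.Def_ShStab
import Groth.Prelude.Def_Mor2

/-!
# Hilbert polynomials: existence, additivity, zero-dimensional sheaves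

* `exists_hilb`: existence for coherent modules on a proper scheme over a field;
* `sub_hilb`: additivity;
* `euler_finite`: `χ(Z, O_Z) = ℓ` for `Z` finite locally free of degree `ℓ` over a field;
* `hilb_of_support`: the Hilbert polynomial of a coherent module with zero-dimensional support.
-/

set_option autoImplicit false
universe u
open CategoryTheory CategoryTheory.Limits AlgebraicGeometry Polynomial

namespace K981.HilbSub

open Groth.Agent

variable (K : Type u) [Field K]

section

variable (Y : Scheme.{u}) [Y.Over (Spec (CommRingCat.of K))] [IsProper (Y ↘ Spec (CommRingCat.of K))]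

theorem exists_hilb {L F : Y.Modules} (hL : PicF.IsInvertible L) (hF : Coh.IsCoh F) :
    ∃ P : ℚ[X], ShStab.IsHilbPoly K Y L F P := by
  obtain ⟨d, hd⟩ := EtpbcA.CdFinDim.exists_dim_le (Y ↘ Spec (CommRingCat.of K))
  have hs : topologicalKrullDim (CohB1.support F) ≤ d :=
    (Topology.IsInducing.subtypeVal.topologicalKrullDim_le).trans hd
  obtain ⟨P, -, hP⟩ := S1528.result K Y F hF d hs 1 (fun _ => L) (fun _ => hL)
  refine ⟨MvPolynomial.aeval (fun _ => Polynomial.X) P, fun M => ?_⟩
  have h1 := hP fun _ => M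
  have h2 : Polynomial.eval (M : ℚ) (MvPolynomial.aeval (fun _ : Fin 1 => Polynomial.X) P) =
      MvPolynomial.eval (fun _ : Fin 1 => (M : ℚ)) P := by
    have h3 := MvPolynomial.comp_aeval_apply (fun _ : Fin 1 => (Polynomial.X : Polynomial ℚ))
      (Polynomial.aeval (R := ℚ) (M : ℚ)) P
    simp only [Polynomial.aeval_X, Polynomial.coe_aeval_eq_eval] at h3
    exact h3
  rw [h2, ← h1]
  rfl

/-- Additivity of Euler characteristics after tensoring with an invertible module. -/
theorem euler_twist_add {A : Y.Modules} (hA : PicF.IsInvertible A) (S : ShortComplex Y.Modules)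
    (hS : S.ShortExact) (h1 : Coh.IsCoh S.X₁) (h2 : Coh.IsCoh S.X₂) (h3 : Coh.IsCoh S.X₃) :
    Curv2.euler K Y (CohB1.tensorMod S.X₂ A) =
      Curv2.euler K Y (CohB1.tensorMod S.X₁ A) + Curv2.euler K Y (CohB1.tensorMod S.X₃ A) := by
  have key : ∀ B : Y.Modules, Curv2.euler K Y (CohB1.tensorMod A B) =
      Curv2.euler K Y (CohB1.tensorMod B A) := fun B =>
    Fga.HodgePush.euler_congr K Y (Fga.TensorList.tensorComm A B)
  have hc : ∀ B : Y.Modules, Coh.IsCoh B → Coh.IsCoh (CohB1.tensorMod A B) := fun B hB =>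
    VarietyA.EulerFinite.isCoh_of_iso (Fga.TensorList.tensorComm B A) (Fga.TwistCoh.isCoh_tensor hB hA)
  rw [← key, ← key, ← key]
  exact S1524.result K Y (S.map (DCoh.tensorBi.obj A)) (Fga.TwistCoh.shortExact_tensorBi hA S hS)
    (hc _ h1) (hc _ h2) (hc _ h3)

theorem sub_hilb {L : Y.Modules} (hL : PicF.IsInvertible L) (S : ShortComplex Y.Modules)
    (hS : S.ShortExact) (h1 : Coh.IsCoh S.X₁) (h2 : Coh.IsCoh S.X₂) (h3 : Coh.IsCoh S.X₃) {P Q : ℚ[X]}
    (hP : ShStab.IsHilbPoly K Y L S.X₂ P) (hQ : ShStab.IsHilbPoly K Y L S.X₃ Q) :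
    ShStab.IsHilbPoly K Y L S.X₁ (P - Q) := by
  intro m
  have h := euler_twist_add K Y (Fdesc.LocGen.isInvertible_tensorPow hL m) S hS h1 h2 h3
  have hP' := hP m
  have hQ' := hQ m
  unfold ShStab.twist at hP' hQ' ⊢
  rw [eval_sub, ← hP', ← hQ', h]
  push_cast
  ring

/-- The Hilbert polynomial of a coherent module with support of dimension at most zero. -/
theorem hilb_of_support {L F : Y.Modules} (hL : PicF.IsInvertible L) (hF : Coh.IsCoh F)
    (hs : topologicalKrullDim (CohB1.support F) ≤ 0) :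
    ShStab.IsHilbPoly K Y L F (C (Curv2.euler K Y F : ℚ)) := by
  have := Groth.Agent.Fga.SnapperTwist.isNoetherian_of_proper K Y
  intro m
  have h := VarietyA.EulerFinite.euler_tensor_of_support K Y F hF hs 1 (CohB1.tensorPow L m)
    (Ega2.QCohLocal.isFinLocFreeOfRank_one_iff.2 (Fdesc.LocGen.isInvertible_tensorPow hL m))
    (ShStab.twist Y L F m) (Fga.TensorList.tensorComm _ _)
  rw [h, eval_C]
  push_cast
  ring

end

section Finite

variable (Z : Scheme.{u}) [Z.Over (Spec (CommRingCat.of K))]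

/-- The structure map, as a map to global functions. -/
noncomputable def glob : K →+* Γ(Z, ⊤) := Coh.toGlobal (Z ↘ Spec (CommRingCat.of K))

theorem structure_eq [IsAffine Z] : (Z ↘ Spec (CommRingCat.of K)) =
    Z.isoSpec.hom ≫ Spec.map (CommRingCat.ofHom (glob K Z)) := by
  have h := Scheme.isoSpec_hom_naturality (Z ↘ Spec (CommRingCat.of K))
  have h2 : (Spec (CommRingCat.of K)).isoSpec.hom = Spec.map (Scheme.ΓSpecIso (CommRingCat.of K)).hom := by
    exact Scheme.isoSpec_Spec_hom _
  have h3 : CommRingCat.ofHom (glob K Z) =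
    (Scheme.ΓSpecIso (CommRingCat.of K)).inv ≫ (Z ↘ Spec (CommRingCat.of K)).appTop := rfl
  rw [h3, Spec.map_comp, ← Category.assoc, h, h2, Category.assoc, ← Spec.map_comp]
  simp

theorem euler_finite {ℓ : ℕ} (h : Mor2.IsFinLocFreeOfDeg ℓ (Z ↘ Spec (CommRingCat.of K))) :
    Curv2.euler K Z (Coh.structureModule Z) = ℓ := by
  obtain ⟨⟨hfin, hflat, hfp⟩, hdeg⟩ := h
  have hZ : IsAffine Z := isAffine_of_isAffineHom (Z ↘ Spec (CommRingCat.of K))
  have hq : Coh.IsQCoh (Coh.structureModule Z) := Fdesc.StructMod.isQCoh_structureModule _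
  rw [VarietyA.EulerFinite.euler_eq_of_vanish K Z _ (fun i hi => by
    have := hq
    exact S0007.result Z (Coh.structureModule Z) i hi)]
  let : Module K (Coh.Γtop Z) := CurvesC.CurveNum.topMod K Z
  rw [(CurvesC.CurveNum.hZeroTop K Z).finrank_eq]
  norm_cast
  let : Algebra K Γ(Z, ⊤) := (glob K Z).toAlgebra
  have h1 : (Z ↘ Spec (CommRingCat.of K)) =
      Z.isoSpec.hom ≫ Spec.map (CommRingCat.ofHom (algebraMap K Γ(Z, ⊤))) := structure_eq K Z
  have h0 : IsFinite (Spec.map (CommRingCat.ofHom (algebraMap K Γ(Z, ⊤)))) := by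
    have h4 : Spec.map (CommRingCat.ofHom (algebraMap K Γ(Z, ⊤))) =
      Z.isoSpec.inv ≫ (Z ↘ Spec (CommRingCat.of K)) := by
      rw [h1, Iso.inv_hom_id_assoc]
    rw [h4]
    infer_instance
  have h2 : Module.Finite K Γ(Z, ⊤) := by
    have := (IsFinite.SpecMap_iff _).1 h0
    exact this
  obtain ⟨y⟩ : Nonempty (Spec (CommRingCat.of K)) := inferInstance
  have h3 := hdeg y
  rw [h1, Scheme.Hom.finrank_comp_left_of_isIso] at h3
  have h5 := Scheme.Hom.finrank_SpecMap_algebraMap K Γ(Z, ⊤) y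
  rw [Module.rankAtStalk_eq_finrank_of_free] at h5
  exact h5.symm.trans h3

end Finite

end K981.HilbSub
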