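import Groth.Agent.NonPure.K981.IdealImage
import Groth.Agent.ShStab.K847.HilbBasic
import Groth.Agent.S1529

/-!
# Ideals with Hilbert polynomial `P_{O_X} - ℓ`
-/

set_option autoImplicit false
universe u
open CategoryTheory CategoryTheory.Limits AlgebraicGeometry TopologicalSpace

namespace K981.ZeroDim

open Groth.Agent Groth.Agent.Krr.H478.ImIdeal

variable {Y : Scheme.{u}}

theorem support_subset (D : Y.IdealSheafData) : (D.support : Set Y) ⊆ CohB1.support (ClSub.quotMod D) := by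
  intro x hx
  by_contra hs
  rw [CohqB.DevSupport.not_mem_support_iff] at hs
  obtain ⟨y, rfl⟩ : x ∈ Set.range D.subschemeι := by rw [D.range_subschemeι]; exact hx
  let t : Γ(ClSub.quotMod D, ⊤) := (1 : Γ(D.subscheme, D.subschemeι ⁻¹ᵁ ⊤))
  have h0 : (ClSub.quotMod D).presheaf.germ ⊤ (D.subschemeι y) trivial t = 0 := Subsingleton.elim _ _
  obtain ⟨W, hWV, hxW, hW⟩ := VarietyB.ExactLoc.exists_res_eq_zero (ClSub.quotMod D)
    (x := D.subschemeι y) (U := ⊤) trivial t h0
  have h1 : (1 : Γ(D.subscheme, D.subschemeι ⁻¹ᵁ W)) = 0 := by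
    have h2 : D.subscheme.presheaf.map (homOfLE ((Opens.map D.subschemeι.base).monotone hWV)).op
      (1 : Γ(D.subscheme, D.subschemeι ⁻¹ᵁ ⊤)) = 0 := hW
    rwa [map_one] at h2
  have h3 : (1 : D.subscheme.presheaf.stalk y) = 0 := by
    rw [← map_one (D.subscheme.presheaf.germ (D.subschemeι ⁻¹ᵁ W) y hxW).hom, h1, map_zero]
  exact one_ne_zero h3

theorem support_quotMod (D : Y.IdealSheafData) : CohB1.support (ClSub.quotMod D) = (D.support : Set Y) :=
  (VarietyB.DegCartier.support_quotMod_subset D).antisymm (support_subset D)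

theorem dim_subscheme_le (D : Y.IdealSheafData) :
    topologicalKrullDim D.subscheme ≤ topologicalKrullDim (CohB1.support (ClSub.quotMod D)) := by
  rw [support_quotMod, ← D.range_subschemeι]
  exact (D.subschemeι.isClosedEmbedding.isEmbedding.toHomeomorph).isInducing.topologicalKrullDim_le

section Deg

variable (K : Type u) [Field K] [Y.Over (Spec (CommRingCat.of K))]
  [IsProper (Y ↘ Spec (CommRingCat.of K))]

/-- A closed subscheme whose structure sheaf has constant Hilbert polynomial `ℓ` is finite of degree `ℓ`. -/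
theorem isFinLocFreeOfDeg_of_hilb {L : Y.Modules} (hL : CohB1.IsAmple L) {D : Y.IdealSheafData} {ℓ : ℕ}
    (hℓ : 0 < ℓ) (h : ShStab.IsHilbPoly K Y L (ClSub.quotMod D) (Polynomial.C (ℓ : ℚ))) :
    Mor2.IsFinLocFreeOfDeg ℓ (D.subschemeι ≫ (Y ↘ Spec (CommRingCat.of K))) := by
  have hN : IsLocallyNoetherian Y := IdealEndK.isLocallyNoetherian (Y ↘ Spec (CommRingCat.of K))
  have hQ : Coh.IsCoh (ClSub.quotMod D) := VarietyB.DegCartier.isCoh_quotMod D
  have h0 : ¬ IsZero (ClSub.quotMod D) := by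
    intro hz
    have h1 := K847.HilbBasic.hilbPoly_eq_zero K hz h
    rw [Polynomial.C_eq_zero, Nat.cast_eq_zero] at h1
    omega
  obtain ⟨d, hd⟩ := K847.HilbBasic.exists_dim_support_eq K h0
  have h1 := K847.HilbBasic.natDegree_eq K hL hQ hd h
  rw [Polynomial.natDegree_C] at h1
  subst h1
  have h2 : topologicalKrullDim D.subscheme ≤ 0 := (dim_subscheme_le D).trans hd.le
  let c : D.subscheme ⟶ Spec (CommRingCat.of K) := D.subschemeι ≫ (Y ↘ Spec (CommRingCat.of K))
  let : D.subscheme.Over (Spec (CommRingCat.of K)) := ⟨c⟩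
  have hft : LocallyOfFiniteType (D.subscheme ↘ Spec (CommRingCat.of K)) :=
    inferInstanceAs (LocallyOfFiniteType (D.subschemeι ≫ (Y ↘ Spec (CommRingCat.of K))))
  have hqc : QuasiCompact (D.subscheme ↘ Spec (CommRingCat.of K)) :=
    inferInstanceAs (QuasiCompact (D.subschemeι ≫ (Y ↘ Spec (CommRingCat.of K))))
  have h3 := S1529.result K D.subscheme h2
  have hfin : IsFinite c := h3.2
  have hflat : Flat c := by infer_instance
  have hfp : LocallyOfFinitePresentation c :=
    LocallyOfFinitePresentation.iff_locallyOfFiniteType.2 hft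
  obtain ⟨y₀⟩ : Nonempty (Spec (CommRingCat.of K)) := inferInstance
  have hdeg : Mor2.IsFinLocFreeOfDeg (c.finrank y₀) c := ⟨⟨hfin, hflat, hfp⟩, fun y => by
    rw [Subsingleton.elim (α := PrimeSpectrum K) y y₀]⟩
  have h4 := IdealHilb.euler_quotMod K Y D hdeg
  have h5 := IdealHilb.dim_support_quotMod K D c
  have h6 := HilbSub.hilb_of_support K Y hL.1 hQ h5
  have h7 := K847.HilbBasic.hilbPoly_unique K h h6
  rw [h4] at h7
  have h8 := Polynomial.C_injective h7
  have h9 : c.finrank y₀ = ℓ := by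
    have : ((ℓ : ℕ) : ℚ) = ((c.finrank y₀ : ℕ) : ℚ) := by rw [h8]; push_cast; rfl
    exact_mod_cast this.symm
  rw [← h9]
  exact hdeg

/-- **Zero-dimensional quotients.** -/
theorem exists_ideal {L : Y.Modules} (hL : CohB1.IsAmple L) {ℓ : ℕ} (hℓ : 0 < ℓ) {F : Y.Modules}
    (hF : Coh.IsCoh F) (hFP : ∃ P : Polynomial ℚ, ShStab.IsHilbPoly K Y L (Coh.structureModule Y) P ∧
      ShStab.IsHilbPoly K Y L F (P - Polynomial.C (ℓ : ℚ)))
    (t : F ⟶ Coh.structureModule Y) [Mono t] :
    ∃ Z : Y.IdealSheafData, Mor2.IsFinLocFreeOfDeg ℓ (Z.subschemeι ≫ (Y ↘ Spec (CommRingCat.of K))) ∧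
      Nonempty (F ≅ ClSub.idealMod Z) := by
  have hN : IsLocallyNoetherian Y := IdealEndK.isLocallyNoetherian (Y ↘ Spec (CommRingCat.of K))
  obtain ⟨l, hl, hlt⟩ := exists_factor t (imIdeal hF.1 t) (fun U => rfl)
  have hlm : Mono l := by
    have : Mono (l ≫ ClSub.idealModι (imIdeal hF.1 t)) := by rw [hlt]; infer_instance
    exact mono_of_mono l (ClSub.idealModι (imIdeal hF.1 t))
  have hli : IsIso l := isIso_of_mono_of_epi l
  refine ⟨imIdeal hF.1 t, ?_, ⟨asIso l⟩⟩
  generalize imIdeal hF.1 t = D at l hl hlt hlm hli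
  obtain ⟨P, hP, hP'⟩ := hFP
  apply isFinLocFreeOfDeg_of_hilb K hL hℓ
  have hQ : Coh.IsCoh (ClSub.quotMod D) := VarietyB.DegCartier.isCoh_quotMod D
  obtain ⟨Q, hQP⟩ := K847.HilbBasic.exists_hilbPoly K hL.1 hQ
  have h1 := K847.HilbBasic.isHilbPoly_iso K (asIso l) hP'
  have h2 := K847.HilbBasic.hilbPoly_add K hL.1 (VarietyB.DegCartier.idealSeq D)
    (VarietyB.DegCartier.idealSeq_shortExact D) (VarietyB.DegCartier.isCoh_idealMod D)
    (Fdesc.StructMod.isCoh_structureModule _) hQ h1 hP hQP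
  have h3 : Q = Polynomial.C (ℓ : ℚ) := by
    have : P = P - Polynomial.C (ℓ : ℚ) + Q := h2
    linear_combination -this
  rw [← h3]
  exact hQP

end Deg

end K981.ZeroDim
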