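import Groth.Agent.NonPure.K981.ZeroDim
import Groth.Agent.Coherent.K47.SheafHomStalk
import Groth.Agent.S9524
import Mathlib.RingTheory.SimpleModule.Rank

/-!
# A torsion-free coherent module with trivial double dual embeds in the structure sheaf
-/

set_option autoImplicit false
universe u
open CategoryTheory CategoryTheory.Limits AlgebraicGeometry TopologicalSpace

namespace K981.Bidual

open Groth.Agent Groth.Agent.CycB.StalkExact

variable {X : Scheme.{u}}

section Generic

variable [IsIntegral X]

/-- A nonzero map into a torsion-free module from a torsion-free module of rank one is a monomorphism. -/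
theorem mono_of_rank_one {F G : X.Modules} (hF : Coh.IsQCoh F) (htF : TorSh.IsTorsionFree F)
    (hG : Coh.IsQCoh G) (htG : TorSh.IsTorsionFree G)
    (hr : Module.finrank (X.presheaf.stalk (genericPoint X)) (F.presheaf.stalk (genericPoint X)) = 1)
    (φ : F ⟶ G) (hφ : φ ≠ 0) : Mono φ := by
  let k : Type u := X.functionField
  let _ : Module k (F.presheaf.stalk (genericPoint X)) :=
    inferInstanceAs (Module (X.presheaf.stalk (genericPoint X)) (F.presheaf.stalk (genericPoint X)))
  let _ : Module k (G.presheaf.stalk (genericPoint X)) :=
    inferInstanceAs (Module (X.presheaf.stalk (genericPoint X)) (G.presheaf.stalk (genericPoint X)))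
  have hs : IsSimpleModule k (F.presheaf.stalk (genericPoint X)) :=
    isSimpleModule_iff_finrank_eq_one.2 hr
  let f : (F.presheaf.stalk (genericPoint X)) →ₗ[k] (G.presheaf.stalk (genericPoint X)) :=
    stalkLin φ (genericPoint X)
  apply K848.TF.mono_of_generic hF htF
  rcases f.injective_or_eq_zero with h | h
  · exact h
  · exact absurd (K848.TF.eq_zero_of_generic hG htG φ h) hφ

end Generic

/-- `Hom(F, F^{**}) ≃ Hom(F^*, F^*)`. -/
noncomputable def homBidual (F : X.Modules) [DCoh.HasSheafHom F]
    [DCoh.HasSheafHom ((DCoh.sheafHom F).obj (Coh.structureModule X))] :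
    (F ⟶ (DCoh.sheafHom ((DCoh.sheafHom F).obj (Coh.structureModule X))).obj (Coh.structureModule X)) ≃
      ((DCoh.sheafHom F).obj (Coh.structureModule X) ⟶ (DCoh.sheafHom F).obj (Coh.structureModule X)) :=
  ((DCoh.sheafHomAdj ((DCoh.sheafHom F).obj (Coh.structureModule X))).homEquiv F
      (Coh.structureModule X)).symm.trans <|
    ((Fga.TensorList.tensorComm F ((DCoh.sheafHom F).obj (Coh.structureModule X))).homFromEquiv (Z := Coh.structureModule X)).symm.trans
      ((DCoh.sheafHomAdj F).homEquiv _ _)

section Rank

variable [IsIntegral X] [IsLocallyNoetherian X]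

/-- the generic rank of a sheaf Hom into the structure sheaf -/
theorem finrank_dual {F : X.Modules} (hF : Coh.IsCoh F) [DCoh.HasSheafHom F] :
    Module.finrank (X.presheaf.stalk (genericPoint X))
      (((DCoh.sheafHom F).obj (Coh.structureModule X)).presheaf.stalk (genericPoint X)) =
    Module.finrank (X.presheaf.stalk (genericPoint X)) (F.presheaf.stalk (genericPoint X)) := by
  have hO : Coh.IsCoh (Coh.structureModule X) := Fdesc.StructMod.isCoh_structureModule _
  have e := Coherent.K47.SheafHomStalk.stalkSheafHomEquiv hF (Coh.structureModule X) (genericPoint X)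
  rw [e.finrank_eq]
  let k : Type u := X.functionField
  let i1 : Module k (F.presheaf.stalk (genericPoint X)) :=
    inferInstanceAs (Module (X.presheaf.stalk (genericPoint X)) (F.presheaf.stalk (genericPoint X)))
  let i2 : Module k ((Coh.structureModule X).presheaf.stalk (genericPoint X)) :=
    inferInstanceAs (Module (X.presheaf.stalk (genericPoint X))
      ((Coh.structureModule X).presheaf.stalk (genericPoint X)))
  have h1 : Module.Finite k (F.presheaf.stalk (genericPoint X)) :=
    CycB.CohStalk.finite_stalk F hF (genericPoint X)
  have h2 : Module.Finite k ((Coh.structureModule X).presheaf.stalk (genericPoint X)) :=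
    CycB.CohStalk.finite_stalk _ hO (genericPoint X)
  have h3 : Module.finrank k ((Coh.structureModule X).presheaf.stalk (genericPoint X)) = 1 :=
    K848.Hull.rk_structureModule_of_isInvertible Fdesc.LocGen.isInvertible_structureModule
  have h4 := Module.finrank_linearMap k k (F.presheaf.stalk (genericPoint X))
    ((Coh.structureModule X).presheaf.stalk (genericPoint X))
  rw [h3, mul_one] at h4
  exact h4

/-- **A torsion-free coherent module with trivial double dual embeds in the structure sheaf.** -/
theorem exists_mono {F : X.Modules} (hF : Coh.IsCoh F) (htF : TorSh.IsTorsionFree F)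
    [DCoh.HasSheafHom F] [DCoh.HasSheafHom ((DCoh.sheafHom F).obj (Coh.structureModule X))]
    (hdet : Nonempty ((DCoh.sheafHom ((DCoh.sheafHom F).obj (Coh.structureModule X))).obj
      (Coh.structureModule X) ≅ Coh.structureModule X)) :
    ∃ t : F ⟶ Coh.structureModule X, Mono t := by
  obtain ⟨e⟩ := hdet
  have hO : Coh.IsCoh (Coh.structureModule X) := Fdesc.StructMod.isCoh_structureModule _
  have hD : Coh.IsCoh ((DCoh.sheafHom F).obj (Coh.structureModule X)) := S9524.result X F _ hF hO
  have hr : Module.finrank (X.presheaf.stalk (genericPoint X))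
      (F.presheaf.stalk (genericPoint X)) = 1 := by
    rw [← finrank_dual hF, ← finrank_dual hD, (stalkLinEquiv e (genericPoint X)).finrank_eq]
    exact K848.Hull.rk_structureModule_of_isInvertible Fdesc.LocGen.isInvertible_structureModule
  have hne : ∃ t : F ⟶ Coh.structureModule X, t ≠ 0 := by
    by_contra hall
    push Not at hall
    have h1 : Subsingleton (F ⟶ Coh.structureModule X) := ⟨fun a b => (hall a).trans (hall b).symm⟩
    have h2 : Subsingleton (F ⟶ (DCoh.sheafHom ((DCoh.sheafHom F).obj (Coh.structureModule X))).obj
      (Coh.structureModule X)) := ⟨fun a b => by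
        rw [← cancel_mono e.hom]
        exact Subsingleton.elim _ _⟩
    have h3 := (homBidual F).symm.injective.subsingleton
    have h4 : IsZero ((DCoh.sheafHom F).obj (Coh.structureModule X)) :=
      (IsZero.iff_id_eq_zero _).2 (Subsingleton.elim _ _)
    have h5 := finrank_dual hF
    rw [hr] at h5
    have h6 : Subsingleton (((DCoh.sheafHom F).obj (Coh.structureModule X)).presheaf.stalk
      (genericPoint X)) := by
      have := CohqB.DevSupport.support_eq_empty_of_isZero h4
      rw [← CohqB.DevSupport.not_mem_support_iff, this]
      exact Set.notMem_empty _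
    rw [Module.finrank_zero_of_subsingleton] at h5
    exact absurd h5 (by norm_num)
  obtain ⟨t, ht⟩ := hne
  exact ⟨t, mono_of_rank_one hF.1 htF hO.1 IdealRestr.isTorsionFree_structureModule hr t ht⟩

end Rank

end K981.Bidual
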