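import Groth.Agent.BMCoh.K876.Dim
import Mathlib.AlgebraicGeometry.Properties

/-!
# The dimension of a closed subset of codimension at least `c`
-/

set_option autoImplicit false
universe u
open CategoryTheory AlgebraicGeometry TopologicalSpace

namespace K981.Codim

variable {X : Scheme.{u}}

theorem height_add_ringKrullDim_le (x : X) :
    ((Order.height x : ℕ∞) : WithBot ℕ∞) + ringKrullDim (X.presheaf.stalk x) ≤ topologicalKrullDim X := by
  have hne : Nonempty X := ⟨x⟩
  rw [K876.Dim.krullDim_spec, ringKrullDim_stalk_eq_coheight]
  have h := Order.krullDim_eq_iSup_height_add_coheight_of_nonempty (α := X)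
  have h2 : Order.height x + Order.coheight x ≤ ⨆ a : X, Order.height a + Order.coheight a :=
    le_iSup (fun a : X => Order.height a + Order.coheight a) x
  have h3 : ((Order.height x + Order.coheight x : ℕ∞) : WithBot ℕ∞) ≤ Order.krullDim X := by
    rw [h]
    exact WithBot.coe_le_coe.2 h2
  exact h3

/-- A closed subset at all points of which the local rings have dimension at least `c` has codimension
at least `c`. -/
theorem dim_le {n c : ℕ} (hX : topologicalKrullDim X ≤ n) (S : Set X) (hS : IsClosed S)
    (h : ∀ x ∈ S, (c : WithBot ℕ∞) ≤ ringKrullDim (X.presheaf.stalk x)) :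
    topologicalKrullDim S ≤ ((n - c : ℕ) : WithBot ℕ∞) ∧ (S.Nonempty → c ≤ n) := by
  have key : ∀ x ∈ S, ∀ m : ℕ, (m : ℕ∞) ≤ Order.height x → m + c ≤ n := by
    intro x hx m hm
    have h1 := height_add_ringKrullDim_le x
    have h2 : ((m : ℕ∞) : WithBot ℕ∞) + (c : WithBot ℕ∞) ≤ (n : WithBot ℕ∞) :=
      (add_le_add (WithBot.coe_le_coe.2 hm) (h x hx)).trans (h1.trans hX)
    exact_mod_cast h2
  constructor
  · have : QuasiSober S := hS.isClosedEmbedding_subtypeVal.quasiSober
    rw [K876.Dim.krullDim_spec]
    have e : @Order.krullDim S (specializationPreorder S) = Order.krullDim S :=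
      @Order.krullDim_eq_of_orderIso _ _ (specializationPreorder S) _
        { toFun := id
          invFun := id
          left_inv := fun _ => rfl
          right_inv := fun _ => rfl
          map_rel_iff' := fun {a b} => (subtype_specializes_iff b a).symm }
    rw [e]
    refine iSup_le fun p => ?_
    have hmono : StrictMono (Subtype.val : S → X) := fun a b hab => hab
    have h2 := Order.length_le_height_last (p := p.map Subtype.val hmono)
    rw [LTSeries.map_length] at h2
    have h3 := key _ (by rw [LTSeries.last_map]; exact p.last.2) p.length h2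
    have h4 : p.length ≤ n - c := by omega
    exact_mod_cast h4
  · rintro ⟨x, hx⟩
    have := key x hx 0 (by simp)
    omega

end K981.Codim
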