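import Groth.Agent.NonPure.K981.Vanish
import Groth.Agent.PerfA.StalkPush
import Groth.Prelude.Def_Omega2

/-!
# A flat family whose fibre lies in a closed subscheme with rigid normal sheaf lies in it near the fibre
-/

set_option autoImplicit false
universe u

open CategoryTheory CategoryTheory.Limits AlgebraicGeometry TopologicalSpace Opposite
open AlgebraicGeometry.Scheme.Modules hiding pullback
open Groth.Agent

namespace K981.Factor

open K981.Vanish K981.KrullVan

theorem eq_zero_of_pullback {T S : Scheme.{u}} (c : T ⟶ S) [Flat c] [Surjective c] {M N : S.Modules} (w : M ⟶ N)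
    (h : (Scheme.Modules.pullback c).map w = 0) : w = 0 := by
  have h1 : (Scheme.Modules.pullback c).map (Abelian.factorThruImage w) ≫
      (Scheme.Modules.pullback c).map (Abelian.image.ι w) = 0 := by
    rw [← Functor.map_comp, Abelian.image.fac, h]
  have h2 : (Scheme.Modules.pullback c).map (Abelian.factorThruImage w) = 0 := by
    rw [← cancel_mono ((Scheme.Modules.pullback c).map (Abelian.image.ι w)), h1, zero_comp]
  have h3 : IsZero ((Scheme.Modules.pullback c).obj (Abelian.image w)) := by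
    rw [IsZero.iff_id_eq_zero, ← cancel_epi ((Scheme.Modules.pullback c).map (Abelian.factorThruImage w)), h2,
      zero_comp, zero_comp]
  have h4 := PerfB.FlatPull.isZero_of_isZero_pullback c (Abelian.image w) h3
  rw [← Abelian.image.fac w, h4.eq_of_src (Abelian.image.ι w) 0, comp_zero]

theorem hom_eq_zero_of_pullback {T S : Scheme.{u}} (c : T ⟶ S) [Flat c] [Surjective c] {M : S.Modules}
    (h : ∀ w : (Scheme.Modules.pullback c).obj M ⟶ Coh.structureModule T, w = 0)
    (w : M ⟶ Coh.structureModule S) : w = 0 := by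
  refine eq_zero_of_pullback c w ?_
  rw [← cancel_mono (Fga.UnitRestrict.pullbackUnitIso c).hom, h ((Scheme.Modules.pullback c).map w ≫ _), zero_comp]

theorem P_of_flat {Z' Z X : Scheme.{u}} (b : Z' ⟶ Z) [Flat b] (q : Z ⟶ X) (I : X.IdealSheafData) (z' : Z')
    (h : P (b ≫ q) I z') : P q I (b z') := by
  intro V hV a ha
  have h1 := h V hV a ha
  rw [Scheme.Hom.stalkMap_comp] at h1
  have h2 : (b.stalkMap z').hom.Flat := Flat.stalkMap b z'
  have h3 : Function.Injective (b.stalkMap z').hom := by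
    have hl : IsLocalHom (b.stalkMap z').hom := inferInstance
    algebraize [(b.stalkMap z').hom]
    have : IsLocalHom (algebraMap (Z.presheaf.stalk (b z')) (Z'.presheaf.stalk z')) := hl
    have : Module.FaithfullyFlat (Z.presheaf.stalk (b z')) (Z'.presheaf.stalk z') :=
      Module.FaithfullyFlat.of_flat_of_isLocalHom
    exact FaithfulSMul.algebraMap_injective _ _
  refine h3 ?_
  rw [map_zero]
  exact h1

/-- The ideal pulls back to zero along the fibre over the closed point of the base. -/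
theorem P_closedPoint {R : Type u} [CommRing R] [IsNoetherianRing R] (m : Ideal R) [m.IsMaximal] {Z X : Scheme.{u}}
    [IsLocallyNoetherian Z] (p : Z ⟶ Spec (CommRingCat.of R)) [Flat p] (q : Z ⟶ X) (I : X.IdealSheafData)
    {Z₀ : Scheme.{u}} {i₀ : Z₀ ⟶ Z} {p₀ : Z₀ ⟶ Spec (CommRingCat.of (R ⧸ m))}
    (h₀ : IsPullback i₀ p₀ p (Spec.map (CommRingCat.ofHom (Ideal.Quotient.mk m))))
    (hw : ∀ w : (Scheme.Modules.pullback (i₀ ≫ q)).obj (ClSub.idealMod I) ⟶ Coh.structureModule Z₀, w = 0)
    (z : Z) (hz : (p z).asIdeal = m) : P q I z := by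
  intro V hV a ha
  exact (Scheme.Hom.germ_stalkMap_apply q V.1 z hV a).trans (germ_eq_zero m p q I h₀ hw z hz V hV ha)

/-- A morphism of spectra of fields is flat and surjective. -/
theorem flat_surjective_specMap {k K : CommRingCat.{u}} (hk : IsField k) (hK : IsField K) (ψ : k ⟶ K) :
    Flat (Spec.map ψ) ∧ Surjective (Spec.map ψ) := by
  let _ := hk.toField
  let _ := hK.toField
  constructor
  · rw [Flat.SpecMap_iff]
    algebraize [ψ.hom]
    exact (inferInstance : Module.Flat k K)
  · have : Subsingleton (Spec k) := inferInstanceAs (Subsingleton (PrimeSpectrum k))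
    have : Nonempty (Spec K) := inferInstanceAs (Nonempty (PrimeSpectrum K))
    exact ⟨fun x => ⟨Classical.arbitrary _, Subsingleton.elim _ _⟩⟩

variable {H Z X : Scheme.{u}} [IsLocallyNoetherian H] (p : Z ⟶ H) [Flat p] [LocallyOfFiniteType p] (q : Z ⟶ X)
  (I : X.IdealSheafData) (h : H) {K : CommRingCat.{u}} (hK : IsField K) (ψ : H.residueField h ⟶ K) {F : Scheme.{u}}
  {v : F ⟶ Z} {s : F ⟶ Spec K}

include hK in
/-- The ideal pulls back to zero along the fibre over `h`. -/
theorem P_fiber (hS : IsPullback v s p (Spec.map ψ ≫ H.fromSpecResidueField h))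
    (hw : ∀ w : (Scheme.Modules.pullback (v ≫ q)).obj (ClSub.idealMod I) ⟶ Coh.structureModule F, w = 0)
    (z : Z) (hz : p z = h) : P q I z := by
  let R : CommRingCat.{u} := H.presheaf.stalk h
  let m : Ideal R := IsLocalRing.maximalIdeal R
  have : IsNoetherianRing R := inferInstanceAs (IsNoetherianRing (H.presheaf.stalk h))
  let b : pullback p (H.fromSpecStalk h) ⟶ Z := pullback.fst _ _
  let p' : pullback p (H.fromSpecStalk h) ⟶ Spec (CommRingCat.of R) := pullback.snd _ _
  have hp' : IsPullback b p' p (H.fromSpecStalk h) := IsPullback.of_hasPullback _ _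
  have : Flat (H.fromSpecStalk h) := PerfA.StalkPush.flat_fromSpecStalk h
  have : Flat b := MorphismProperty.of_isPullback hp'.flip inferInstance
  have : Flat p' := MorphismProperty.of_isPullback hp' inferInstance
  have : LocallyOfFiniteType p' := MorphismProperty.of_isPullback hp' inferInstance
  have : IsLocallyNoetherian (pullback p (H.fromSpecStalk h)) := LocallyOfFiniteType.isLocallyNoetherian p'
  let c₀ : Spec (CommRingCat.of (R ⧸ m)) ⟶ Spec (CommRingCat.of R) :=
    Spec.map (CommRingCat.ofHom (Ideal.Quotient.mk m))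
  have h₀ : IsPullback (pullback.fst p' c₀) (pullback.snd p' c₀) p' c₀ := IsPullback.of_hasPullback _ _
  have hc₀ : c₀ ≫ H.fromSpecStalk h = H.fromSpecResidueField h := rfl
  have h1 : IsPullback (pullback.fst p' c₀ ≫ b) (pullback.snd p' c₀) p (H.fromSpecResidueField h) :=
    (h₀.paste_horiz hp')
  have hcw : v ≫ p = (s ≫ Spec.map ψ) ≫ H.fromSpecResidueField h := by rw [Category.assoc]; exact hS.w
  let c : F ⟶ pullback p' c₀ := h1.lift v (s ≫ Spec.map ψ) hcw
  have hc1 : c ≫ pullback.fst p' c₀ ≫ b = v := h1.lift_fst _ _ _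
  have hc2 : c ≫ pullback.snd p' c₀ = s ≫ Spec.map ψ := h1.lift_snd _ _ _
  have hc : IsPullback c s (pullback.snd p' c₀) (Spec.map ψ) :=
    IsPullback.of_right (by rw [hc1]; exact hS) hc2 h1
  obtain ⟨hf1, hf2⟩ := flat_surjective_specMap (Field.toIsField (H.residueField h)) hK ψ
  have : Flat c := MorphismProperty.of_isPullback hc.flip hf1
  have : Surjective c := MorphismProperty.of_isPullback hc.flip hf2
  have hw' : ∀ w : (Scheme.Modules.pullback (pullback.fst p' c₀ ≫ b ≫ q)).obj (ClSub.idealMod I) ⟶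
      Coh.structureModule _, w = 0 := by
    refine hom_eq_zero_of_pullback c ?_
    refine hom_congr ?_ (Iso.refl _) hw
    exact (Scheme.Modules.pullbackCongr (by rw [← hc1]; simp only [Category.assoc])).app _ ≪≫
      ((Scheme.Modules.pullbackComp c (pullback.fst p' c₀ ≫ b ≫ q)).app (ClSub.idealMod I)).symm
  obtain ⟨z', hz'1, hz'2⟩ := Scheme.Pullback.exists_preimage_pullback (f := p) (g := H.fromSpecStalk h) z
    (IsLocalRing.closedPoint R) (by rw [hz]; exact (Scheme.fromSpecStalk_closedPoint ..).symm)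
  rw [← hz'1]
  refine P_of_flat b q I z' ?_
  refine P_closedPoint m p' (b ≫ q) I h₀ hw' z' ?_
  have h3 : p' z' = IsLocalRing.closedPoint R := hz'2
  rw [h3]
  rfl

/-- tube lemma -/
theorem exists_tube {Z H : Scheme.{u}} (p : Z ⟶ H) (hp : IsClosedMap p) {S : Set Z} (hS : IsOpen S) (h : H)
    (hh : ∀ z, p z = h → z ∈ S) : ∃ U : H.Opens, h ∈ U ∧ ∀ z, p z ∈ U → z ∈ S := by
  refine ⟨⟨(p '' Sᶜ)ᶜ, (hp _ hS.isClosed_compl).isOpen_compl⟩, ?_, fun z hz => ?_⟩
  · rintro ⟨z, hz, hzh⟩
    exact hz (hh z hzh)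
  · by_contra hcon
    exact hz ⟨z, hcon, rfl⟩

/-- **The family factors through the closed subscheme near the fibre.** -/
theorem exists_factor {H Z X Y : Scheme.{u}} [IsLocallyNoetherian H] [IsLocallyNoetherian X] (p : Z ⟶ H)
    [IsProper p] [Flat p] (q : Z ⟶ X) (i : Y ⟶ X) [IsClosedImmersion i] (h : H) {K : CommRingCat.{u}}
    (hK : IsField K) (ψ : H.residueField h ⟶ K) {F : Scheme.{u}} {v : F ⟶ Z} {s : F ⟶ Spec K}
    (hS : IsPullback v s p (Spec.map ψ ≫ H.fromSpecResidueField h)) (y₀ : F ⟶ Y) (hy : y₀ ≫ i = v ≫ q)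
    (hvan : ∀ w : (Scheme.Modules.pullback y₀).obj (Omega.conormal i) ⟶ Coh.structureModule F, w = 0) :
    ∃ U : H.Opens, h ∈ U ∧ ∃ y : (p ⁻¹ᵁ U : Z.Opens).toScheme ⟶ Y, y ≫ i = (p ⁻¹ᵁ U).ι ≫ q := by
  have hw : ∀ w : (Scheme.Modules.pullback (v ≫ q)).obj (ClSub.idealMod i.ker) ⟶ Coh.structureModule F, w = 0 := by
    refine hom_congr ?_ (Iso.refl _) hvan
    exact (Scheme.Modules.pullbackComp y₀ i).app (ClSub.idealMod i.ker) ≪≫
      (Scheme.Modules.pullbackCongr hy).app _
  obtain ⟨U, hU, h1⟩ := exists_tube p p.isClosedMap (isOpen_P (q := q) (I := i.ker)) h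
    (P_fiber p q i.ker h hK ψ hS hw)
  refine ⟨U, hU, exists_lift i (p ⁻¹ᵁ U).ι fun t => h1 _ ?_⟩
  have h2 : (p ⁻¹ᵁ U).ι t ∈ (p ⁻¹ᵁ U).ι.opensRange := ⟨t, rfl⟩
  rw [Scheme.Opens.opensRange_ι] at h2
  exact h2

end K981.Factor
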