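import Groth.Agent.NonPure.K981.IdealEnd
import Groth.Agent.VarietyA.RegSmoothSch
import Groth.Agent.S2821
import Groth.Agent.Sga67.DVRConn
import Groth.Agent.Flat2B.SmoothGeom
import Mathlib.RingTheory.IntegralClosure.Algebra.Basic
import Mathlib.LinearAlgebra.FreeModule.Finite.Basic

/-!
# Endomorphisms of ideal sheaves on a smooth proper geometrically irreducible scheme over a field
-/

set_option autoImplicit false
universe u
open CategoryTheory CategoryTheory.Limits AlgebraicGeometry Opposite TopologicalSpace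

namespace K981.IdealEndK

open Groth.Agent.PerfA.IdealModule Groth.Agent.CohqB.QC2 Groth.Agent.CohqB.FiniteType2
open Groth.Agent.Lipman.Loc Groth.Agent.CurvesB.RankOne K981.IdealEnd

variable {X : Scheme.{u}}

section Smooth

variable {K : Type u} [Field K] (g : X ⟶ Spec (CommRingCat.of K))

include g in
theorem isLocallyNoetherian [LocallyOfFiniteType g] : IsLocallyNoetherian X :=
  LocallyOfFiniteType.isLocallyNoetherian g

include g in
theorem isRegularLocalRing_stalk [Smooth g] (x : X) : IsRegularLocalRing (X.presheaf.stalk x) :=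
  Groth.Agent.VarietyA.RegSmoothSch.isRegularLocalRing_stalk_of_mem_smoothLocus g x
    (by rw [g.smoothLocus_eq_top]; trivial)

include g in
theorem ufd_stalk [Smooth g] [IsIntegral X] (x : X) : UniqueFactorizationMonoid (X.presheaf.stalk x) := by
  have := isRegularLocalRing_stalk g x
  exact (Groth.Agent.S2821.result (X.presheaf.stalk x)).2

include g in
theorem isIntegrallyClosed_stalk [Smooth g] [IsIntegral X] (x : X) :
    IsIntegrallyClosed (X.presheaf.stalk x) := by
  have := ufd_stalk g x
  infer_instance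

end Smooth

variable [IsIntegral X]

/-- A nonzero ideal sheaf on an integral scheme is nonzero on every nonempty affine open. -/
theorem exists_mem_ne_zero {W : X.IdealSheafData} (hW : W ≠ ⊥) (V : X.affineOpens) (hV : Nonempty V.1) :
    ∃ r ∈ W.ideal V, r ≠ 0 := by
  obtain ⟨U, a, ha⟩ := exists_section_ne_zero hW
  have hU : Nonempty U.1 := by
    obtain ⟨x, hx⟩ := Groth.Agent.CurvesB.RankOneMono.nonempty_of_ne_zero ha
    exact ⟨⟨x, hx⟩⟩
  by_contra hcon
  push Not at hcon
  obtain ⟨y, hy⟩ := (nonempty_inf (U := U.1) (V := V.1)).some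
  obtain ⟨s, hs, hys⟩ := V.2.exists_basicOpen_le ⟨y, hy⟩ hy.2
  have hVb : Nonempty (X.basicOpen s) := ⟨⟨y, hys⟩⟩
  have e0 : W.ideal V = ⊥ := by
    rw [eq_bot_iff]
    intro r hr
    exact hcon r hr
  have e1 : W.ideal (X.affineBasicOpen (U := V) s) = ⊥ := by
    rw [← W.map_ideal_basicOpen, e0]
    exact Ideal.map_bot
  have hsec : (ClSub.idealMod W).presheaf.map
      (homOfLE (hs.trans inf_le_left : X.basicOpen s ≤ U.1)).op a = 0 := by
    apply val_injective
    rw [val_zero]
    have := val_mem W (X.affineBasicOpen (U := V) s)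
      ((ClSub.idealMod W).presheaf.map (homOfLE (hs.trans inf_le_left : X.basicOpen s ≤ U.1)).op a)
    rw [e1] at this
    exact this
  have h1 := rat_res W (hs.trans inf_le_left : X.basicOpen s ≤ U.1) a
  rw [hsec] at h1
  unfold rat at h1
  rw [val_zero, map_zero] at h1
  exact rat_ne_zero W ha h1.symm

/-- a rational function which preserves a nonzero coherent ideal is a global function. -/
theorem exists_global_of_mul [IsLocallyNoetherian X] (hN : ∀ x : X, IsIntegrallyClosed (X.presheaf.stalk x))
    {W : X.IdealSheafData} (hW : W ≠ ⊥) (f : X.functionField)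
    (hf : ∀ (V : X.Opens) [Nonempty V] (b : Γ(ClSub.idealMod W, V)),
      ∃ b' : Γ(ClSub.idealMod W, V), rat W b' = f * rat W b) [Nonempty (⊤ : X.Opens)] :
    ∃ t : Γ(X, ⊤), X.germToFunctionField ⊤ t = f := by
  refine exists_section ⊤ f fun x _ => ?_
  obtain ⟨V, hV, hxV, -⟩ := exists_isAffineOpen_mem_and_subset (X := X) (x := x) (U := ⊤) trivial
  have hVn : Nonempty V := ⟨⟨x, hxV⟩⟩
  let V' : X.affineOpens := ⟨V, hV⟩
  let R : Type u := Γ(X, V)
  let φ : R →+* X.functionField := (X.germToFunctionField V).hom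
  let _ : Algebra R X.functionField := φ.toAlgebra
  have : IsNoetherianRing R := IsLocallyNoetherian.component_noetherian V'
  let I : Submodule R R := W.ideal V'
  let N : Submodule R X.functionField := I.map (Algebra.linearMap R X.functionField)
  have hmem : ∀ z ∈ N, ∃ b : Γ(ClSub.idealMod W, V), rat W b = z := by
    intro z hz
    obtain ⟨r, hr, rfl⟩ := Submodule.mem_map.mp hz
    obtain ⟨b, hb⟩ := exists_val_eq W V' hr
    exact ⟨b, by unfold rat; rw [hb]; rfl⟩
  have hmem' : ∀ b : Γ(ClSub.idealMod W, V), rat W b ∈ N := fun b => 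
    Submodule.mem_map.mpr ⟨val W b, val_mem W V' b, rfl⟩
  -- N ≠ ⊥
  have hNne : N ≠ ⊥ := by
    intro h0
    obtain ⟨r, hr, hr0⟩ := exists_mem_ne_zero hW V' hVn
    have h1 : algebraMap R X.functionField r ∈ N := Submodule.mem_map.mpr ⟨r, hr, rfl⟩
    rw [h0, Submodule.mem_bot] at h1
    apply hr0
    apply X.germToFunctionField_injective V
    rw [map_zero]
    exact h1
  have hNfg : N.FG := Submodule.FG.map _ (IsNoetherian.noetherian I)
  have hint : IsIntegral R f := by
    refine isIntegral_of_smul_mem_submodule N hNne hNfg f fun n hn => ?_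
    obtain ⟨b, rfl⟩ := hmem n hn
    obtain ⟨b', hb'⟩ := hf V b
    rw [smul_eq_mul, ← hb']
    exact hmem' b'
  -- pass to the stalk
  let ψ : R →+* X.presheaf.stalk x := (X.presheaf.germ V x hxV).hom
  have hcomp : (algebraMap (X.presheaf.stalk x) X.functionField).comp ψ = φ := by
    ext r
    exact Scheme.algebraMap_germ_eq_germToFunctionField X hxV r
  obtain ⟨P, hP, hPf⟩ := hint
  have hint2 : IsIntegral (X.presheaf.stalk x) f := by
    refine ⟨P.map ψ, hP.map ψ, ?_⟩
    rw [Polynomial.eval₂_map, hcomp]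
    exact hPf
  have := hN x
  obtain ⟨y, hy⟩ := IsIntegrallyClosed.algebraMap_eq_of_integral hint2
  exact ⟨y, hy⟩

section OverK

variable {K : Type u} [Field K] [X.Over (Spec (CommRingCat.of K))]

theorem rat_smul (W : X.IdealSheafData) {V : X.Opens} [Nonempty V] (c : Γ(X, V))
    (b : Γ(ClSub.idealMod W, V)) : rat W (c • b) = X.germToFunctionField V c * rat W b := by
  unfold rat
  rw [val_smul, map_mul]

/-- Every endomorphism of a nonzero ideal sheaf is a scalar. -/
theorem exists_smul_eq (hN : ∀ x : X, IsIntegrallyClosed (X.presheaf.stalk x)) 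
    [IsLocallyNoetherian X] 
    (hΓ : Function.Surjective (X ↘ Spec (CommRingCat.of K)).appTop)
    {W : X.IdealSheafData} (hW : W ≠ ⊥) (φ : ClSub.idealMod W ⟶ ClSub.idealMod W) :
    ∃ c : K, c • 𝟙 (ClSub.idealMod W) = φ := by
  obtain ⟨f, hf⟩ := exists_rat hW φ
  have : Nonempty (⊤ : X.Opens) := ⟨⟨genericPoint X, trivial⟩⟩
  obtain ⟨t, ht⟩ := exists_global_of_mul hN hW f (fun V _ b => ⟨φ.app V b, hf V b⟩)
  obtain ⟨c', hc'⟩ := hΓ t
  let c : K := (Scheme.ΓSpecIso (CommRingCat.of K)).hom.hom c'
  have hc : Coh.toGlobal (X ↘ Spec (CommRingCat.of K)) c = t := by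
    change (X ↘ Spec (CommRingCat.of K)).appTop ((Scheme.ΓSpecIso (CommRingCat.of K)).inv
      ((Scheme.ΓSpecIso (CommRingCat.of K)).hom c')) = t
    rw [← hc']
    congr 1
    exact congr($((Scheme.ΓSpecIso (CommRingCat.of K)).hom_inv_id) c')
  refine ⟨c, hom_ext_of_rat (f := f) (fun V _ b => ?_) hf⟩
  rw [KLin.smul_id]
  have e : (Formal.smulMod K (ClSub.idealMod W) c).app V b = 
      X.presheaf.map (homOfLE (le_top : V ≤ ⊤)).op (Coh.toGlobal (X ↘ Spec (CommRingCat.of K)) c) • b := rfl
  rw [e, rat_smul, hc]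
  congr 1
  rw [germToFunctionField_res, ht]

theorem id_ne_zero {W : X.IdealSheafData} (hW : W ≠ ⊥) : 𝟙 (ClSub.idealMod W) ≠ 0 := by
  intro h
  obtain ⟨U, a, ha⟩ := exists_section_ne_zero hW
  apply ha
  have : (𝟙 (ClSub.idealMod W) : ClSub.idealMod W ⟶ ClSub.idealMod W).app U.1 a = 0 := by
    rw [h]
    rfl
  exact this

/-- Criterion for one-dimensionality. -/
theorem finite_finrank_one {K V : Type*} [Field K] [AddCommGroup V] [Module K V] (v : V) (hv : v ≠ 0)
    (h : ∀ w : V, ∃ c : K, c • v = w) : Module.Finite K V ∧ Module.finrank K V = 1 := by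
  have h1 : Module.finrank K V = 1 := finrank_eq_one v hv h
  exact ⟨Module.finite_of_finrank_eq_succ h1, h1⟩

end OverK

/-- the scheme hypotheses of the statements give normality and constants. -/
theorem surjective_appTop (K : Type u) [Field K] (X : Scheme.{u}) [X.Over (Spec (CommRingCat.of K))]
    [Smooth (X ↘ Spec (CommRingCat.of K))] [IsProper (X ↘ Spec (CommRingCat.of K))]
    [GeometricallyIrreducible (X ↘ Spec (CommRingCat.of K))] :
    Function.Surjective (X ↘ Spec (CommRingCat.of K)).appTop := by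
  have := Groth.Agent.Flat2B.SmoothGeom.geometricallyIntegral_of_smooth (X ↘ Spec (CommRingCat.of K))
  exact (Groth.Agent.Sga67.DVRConn.appTop_bijective_of_field K X (X ↘ Spec (CommRingCat.of K))).2

end K981.IdealEndK
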