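import Groth.Agent.TFOne.K77.Dvr
import Groth.Agent.S19050
import Groth.Agent.Sga67.FlatPre
import Groth.Agent.CohqA.AffPush

/-!
# Extension of coherent subsheaves of the generic fibre over a discrete valuation ring
-/

set_option autoImplicit false
universe u
open CategoryTheory CategoryTheory.Limits AlgebraicGeometry

namespace K981.Sat

open Groth.Agent

variable {R : Type u} [CommRing R] [IsDomain R] [IsDiscreteValuationRing R] {X : Scheme.{u}}

/-- `Spec` of the residue field at the generic point is an open subscheme of `Spec R`. -/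
theorem isOpenImmersion_fromSpec (y : ↥(Spec (CommRingCat.of R))) (hy : y.asIdeal = ⊥) :
    IsOpenImmersion ((Spec (CommRingCat.of R)).fromSpecResidueField y) := by
  obtain ⟨t, ht⟩ := IsDiscreteValuationRing.exists_irreducible R
  let _ := S19050.algR R y
  have h1 : IsLocalization.Away t ((Spec (CommRingCat.of R)).residueField y) :=
    S19050.algR_injective_of_bot R ht y hy
  have h : Spec.map (CommRingCat.ofHom ((S19050.algR R y).algebraMap)) =
      (Spec (CommRingCat.of R)).fromSpecResidueField y := by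
    rw [← Scheme.Spec.map_residueFieldIso_inv_eq_fromSpecResidueField, ← Spec.map_comp]
    rfl
  rw [← h]
  exact IsOpenImmersion.of_isLocalization t

theorem isOpenImmersion_fiberι (f : X ⟶ Spec (CommRingCat.of R)) (y : ↥(Spec (CommRingCat.of R)))
    (hy : y.asIdeal = ⊥) : IsOpenImmersion (f.fiberι y) := by
  have := isOpenImmersion_fromSpec y hy
  have h2 : IsPullback (f.fiberι y) (f.fiberToSpecResidueField y) f
      ((Spec (CommRingCat.of R)).fromSpecResidueField y) := IsPullback.of_hasPullback _ _
  exact MorphismProperty.of_isPullback h2.flip this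

theorem isUnit_toGlobal (f : X ⟶ Spec (CommRingCat.of R)) (y : ↥(Spec (CommRingCat.of R)))
    (hy : y.asIdeal = ⊥) {t : R} (ht : Irreducible t) :
    IsUnit ((f.fiberι y ≫ f).appTop.hom ((Scheme.ΓSpecIso (CommRingCat.of R)).inv.hom t)) := by
  let _ := S19050.algR R y
  have h1 : IsLocalization.Away t ((Spec (CommRingCat.of R)).residueField y) :=
    S19050.algR_injective_of_bot R ht y hy
  have h : Spec.map (CommRingCat.ofHom ((S19050.algR R y).algebraMap)) =
      (Spec (CommRingCat.of R)).fromSpecResidueField y := by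
    rw [← Scheme.Spec.map_residueFieldIso_inv_eq_fromSpecResidueField, ← Spec.map_comp]
    rfl
  have h2 : f.fiberι y ≫ f = f.fiberToSpecResidueField y ≫
      Spec.map (CommRingCat.ofHom ((S19050.algR R y).algebraMap)) :=
    (pullback.condition : f.fiberι y ≫ f = f.fiberToSpecResidueField y ≫
      (Spec (CommRingCat.of R)).fromSpecResidueField y).trans
        (congrArg (fun z => f.fiberToSpecResidueField y ≫ z) h.symm)
  rw [h2]
  have h3 : IsUnit ((S19050.algR R y).algebraMap t) := IsLocalization.Away.algebraMap_isUnit t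
  have h4 := congrArg (fun z => z.hom t)
    (Scheme.ΓSpecIso_inv_naturality (CommRingCat.ofHom ((S19050.algR R y).algebraMap)))
  have h5 : (Spec.map (CommRingCat.ofHom ((S19050.algR R y).algebraMap))).appTop.hom
      ((Scheme.ΓSpecIso (CommRingCat.of R)).inv.hom t) =
      (Scheme.ΓSpecIso (CommRingCat.of ((Spec (CommRingCat.of R)).residueField y))).inv.hom
        ((S19050.algR R y).algebraMap t) := h4.symm
  rw [Scheme.Hom.comp_appTop]
  have h6 : IsUnit ((f.fiberToSpecResidueField y).appTop.hom
      ((Scheme.ΓSpecIso (CommRingCat.of ((Spec (CommRingCat.of R)).residueField y))).inv.hom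
        ((S19050.algR R y).algebraMap t))) := (h3.map _).map _
  rw [← h5] at h6
  exact h6

open Groth.Agent.VarietyA.StalkCrit Groth.Agent.CycB.StalkExact in
theorem mono_smulModΓ (M : X.Modules) (r : Γ(X, ⊤)) (hr : IsUnit r) :
    Mono (Formal.smulModΓ M (show Coh.Γtop X from r)) := by
  refine mono_of_stalks _ fun x => ?_
  intro m m' hm
  rw [K77.Dvr.stalkLin_smulModΓ, K77.Dvr.stalkLin_smulModΓ] at hm
  have h1 : IsUnit (X.presheaf.germ ⊤ x trivial r) := hr.map (X.presheaf.germ ⊤ x trivial).hom
  exact (h1.smul_left_cancel).1 hm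

omit [IsDomain R] [IsDiscreteValuationRing R] in
theorem mulBy_push (f : X ⟶ Spec (CommRingCat.of R)) {U : Scheme.{u}} (j : U ⟶ X) (Q : U.Modules) (t : R) :
    K77.Dvr.mulBy f ((Scheme.Modules.pushforward j).obj Q) t =
      (Scheme.Modules.pushforward j).map (K77.Dvr.mulBy (j ≫ f) Q t) := by
  ext V s
  have h1 : (j.app V).hom ((X.presheaf.map (homOfLE (le_top (a := V))).op).hom (Coh.toGlobal f t)) =
      (U.presheaf.map (homOfLE (le_top (a := j ⁻¹ᵁ V))).op).hom (Coh.toGlobal (j ≫ f) t) := by
    have h2 := congrArg (fun z => z.hom (Coh.toGlobal f t)) (j.naturality (homOfLE (le_top (a := V))).op)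
    exact h2
  exact congrArg (fun a : Γ(U, j ⁻¹ᵁ V) => a • (show Γ(Q, j ⁻¹ᵁ V) from s)) h1

/-- The saturated extension of a coherent submodule of the generic fibre. -/
theorem exists_saturated (f : X ⟶ Spec (CommRingCat.of R)) [IsLocallyNoetherian X]
    (y : ↥(Spec (CommRingCat.of R))) (hy : y.asIdeal = ⊥)
    {T : X.Modules} (hT : Coh.IsCoh T) (hfl : FlatMod.IsFlatOver f T) {N' : (f.fiber y).Modules}
    (i : N' ⟶ (Scheme.Modules.pullback (f.fiberι y)).obj T) [Mono i] (hN' : Coh.IsCoh N')
    (hT' : Coh.IsCoh ((Scheme.Modules.pullback (f.fiberι y)).obj T)) :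
    ∃ (N : X.Modules) (n : N ⟶ T), Mono n ∧ Coh.IsCoh N ∧ FlatMod.IsFlatOver f N ∧
      FlatMod.IsFlatOver f (cokernel n) ∧ Nonempty ((Scheme.Modules.pullback (f.fiberι y)).obj N ≅ N') := by
  obtain ⟨t, ht⟩ := IsDiscreteValuationRing.exists_irreducible R
  have hj : IsOpenImmersion (f.fiberι y) := isOpenImmersion_fiberι f y hy
  have haff : IsAffineHom (f.fiberι y) := by
    have h0 : IsAffineHom ((Spec (CommRingCat.of R)).fromSpecResidueField y) := by
      rw [← Scheme.Spec.map_residueFieldIso_inv_eq_fromSpecResidueField]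
      infer_instance
    have h2 : IsPullback (f.fiberι y) (f.fiberToSpecResidueField y) f
      ((Spec (CommRingCat.of R)).fromSpecResidueField y) := IsPullback.of_hasPullback _ _
    exact MorphismProperty.of_isPullback h2.flip h0
  have hpl := Sga67.FlatPre.preservesFiniteLimits_pullback (f.fiberι y)
  let j := f.fiberι y
  let adj := Scheme.Modules.pullbackPushforwardAdjunction j
  let Q := cokernel i
  have hQ : Coh.IsQCoh Q := (Sga67.CohBasic.isCoh_cokernel i hN'.1 hT').1
  let ψ : T ⟶ (Scheme.Modules.pushforward j).obj Q := adj.homEquiv _ _ (cokernel.π i)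
  have hmono : Mono (K77.Dvr.mulBy f ((Scheme.Modules.pushforward j).obj Q) t) := by
    rw [mulBy_push]
    have h1 : Mono (K77.Dvr.mulBy (j ≫ f) Q t) := mono_smulModΓ Q _ (isUnit_toGlobal f y hy ht)
    infer_instance
  have hflQ : FlatMod.IsFlatOver f ((Scheme.Modules.pushforward j).obj Q) := K77.Dvr.isFlatOver_of_mono f ht hmono
  refine ⟨kernel ψ, kernel.ι ψ, inferInstance, Sga67.CohBasic.isCoh_kernel _ hT
    (CohqA.AffPush.isQCoh_push j Q hQ), K77.Dvr.isFlatOver_of_mono_hom f (kernel.ι ψ) hfl, ?_, ?_⟩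
  · exact K77.Dvr.isFlatOver_of_mono_hom f (Abelian.factorThruCoimage ψ) hflQ
  · have hfull : IsIso (adj.counit.app Q) := inferInstance
    have h1 : (Scheme.Modules.pullback j).map ψ ≫ adj.counit.app Q = cokernel.π i := by
      have := adj.homEquiv_counit (X := T) (Y := Q) (g := ψ)
      rw [← this]
      exact (adj.homEquiv _ _).symm_apply_apply _
    refine ⟨PreservesKernel.iso (Scheme.Modules.pullback j) ψ ≪≫ ?_⟩
    refine (kernelCompMono ((Scheme.Modules.pullback j).map ψ) (adj.counit.app Q)).symm ≪≫ ?_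
    refine (kernelIsoOfEq h1) ≪≫ ?_
    exact ((Abelian.monoIsKernelOfCokernel _ (cokernelIsCokernel i)).conePointUniqueUpToIso
      (kernelIsKernel (cokernel.π i))).symm

end K981.Sat
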