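import Groth.Agent.ShStab.K846.Twist
import Groth.Agent.ShStab.K846.Facts
import Groth.Agent.ShStab.K846.Ascent
import Groth.Agent.S10962
import Groth.Agent.Dix.ProjProper
import Groth.Agent.NonPure.K981.Sat
import Groth.Agent.NonPure.K981.IdealEndK

/-!
# Dimension of support in flat families
-/

set_option autoImplicit false
universe u
open CategoryTheory CategoryTheory.Limits AlgebraicGeometry

namespace K981.FibHilb

open Groth.Agent

section Basic

variable {K : Type u} [Field K] {Y : Scheme.{u}} [Y.Over (Spec (CommRingCat.of K))]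
  [IsProper (Y ↘ Spec (CommRingCat.of K))] {L : Y.Modules} (hL : CohB1.IsAmple L)

include hL

theorem isZero_iff_hp {M : Y.Modules} (hM : Coh.IsCoh M) : IsZero M ↔ K846.Gies.hp K L M = 0 := by
  have hfac := K846.Facts.hilbFacts K hL
  have hloc : IsLocallyNoetherian Y := IdealEndK.isLocallyNoetherian (Y ↘ Spec (CommRingCat.of K))
  refine ⟨fun h => K846.Gies.hp_zero hfac h, fun h => ?_⟩
  by_contra h0
  have h1 := K846.Gies.hv_pos hfac hM h0
  unfold K846.Gies.hv at h1
  rw [h, K849.PolyOrd.toPV_zero] at h1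
  exact lt_irrefl _ h1

end Basic

section General

variable {X S : Scheme.{u}} (f : X ⟶ S) [IsProper f] [LocallyOfFinitePresentation f] [IsLocallyNoetherian X]
    {K : Type u} [Field K] (σ : Spec (CommRingCat.of K) ⟶ S) (pt : Spec (CommRingCat.of K))
    {Y : Scheme.{u}} [Y.Over (Spec (CommRingCat.of K))] (p : Y ⟶ X)
    (H : IsPullback p (Y ↘ Spec (CommRingCat.of K)) f σ)
    {K₂ : Type u} [Field K₂] (σ₂ : Spec (CommRingCat.of K₂) ⟶ S) (pt₂ : Spec (CommRingCat.of K₂))
    {Y₂ : Scheme.{u}} [Y₂.Over (Spec (CommRingCat.of K₂))] (p₂ : Y₂ ⟶ X)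
    (H₂ : IsPullback p₂ (Y₂ ↘ Spec (CommRingCat.of K₂)) f σ₂) (hs : σ pt ⤳ σ₂ pt₂)
    {L : X.Modules} (hL : CohB1.IsAmple L) [IsAffineHom p] [IsAffineHom p₂]

include H H₂ hs hL

theorem hp_eq {M : X.Modules} (hM : Coh.IsCoh M) (hfl : FlatMod.IsFlatOver f M) :
    K846.Gies.hp K ((Scheme.Modules.pullback p).obj L) ((Scheme.Modules.pullback p).obj M) =
      K846.Gies.hp K₂ ((Scheme.Modules.pullback p₂).obj L) ((Scheme.Modules.pullback p₂).obj M) := by
  have hpr : IsProper (Y ↘ Spec (CommRingCat.of K)) := MorphismProperty.of_isPullback H inferInstance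
  have hfac := K846.Facts.hilbFacts K (K846.Ascent.isAmple_pullback p hL)
  have h1 := K846.Gies.isHilbPoly_hp hfac (FormalB.PullCoh.isCoh_pullback p hM)
  exact (K846.Gies.hp_eq ((K846.Twist.isHilbPoly_of_specializes f σ pt p H σ₂ pt₂ p₂ H₂ hs hL.1 hM hfl).1 h1)).symm

theorem isZero_iff {M : X.Modules} (hM : Coh.IsCoh M) (hfl : FlatMod.IsFlatOver f M) :
    IsZero ((Scheme.Modules.pullback p).obj M) ↔ IsZero ((Scheme.Modules.pullback p₂).obj M) := by
  have hpr : IsProper (Y ↘ Spec (CommRingCat.of K)) := MorphismProperty.of_isPullback H inferInstance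
  have hpr₂ : IsProper (Y₂ ↘ Spec (CommRingCat.of K₂)) := MorphismProperty.of_isPullback H₂ inferInstance
  rw [isZero_iff_hp (K := K) (K846.Ascent.isAmple_pullback p hL) (FormalB.PullCoh.isCoh_pullback p hM),
    isZero_iff_hp (K := K₂) (K846.Ascent.isAmple_pullback p₂ hL) (FormalB.PullCoh.isCoh_pullback p₂ hM),
    hp_eq f σ pt p H σ₂ pt₂ p₂ H₂ hs hL hM hfl]

theorem dim_eq {M : X.Modules} (hM : Coh.IsCoh M) (hfl : FlatMod.IsFlatOver f M)
    (h0 : ¬ IsZero ((Scheme.Modules.pullback p).obj M)) :
    topologicalKrullDim (CohB1.support ((Scheme.Modules.pullback p).obj M)) =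
      topologicalKrullDim (CohB1.support ((Scheme.Modules.pullback p₂).obj M)) := by
  have hpr : IsProper (Y ↘ Spec (CommRingCat.of K)) := MorphismProperty.of_isPullback H inferInstance
  have hpr₂ : IsProper (Y₂ ↘ Spec (CommRingCat.of K₂)) := MorphismProperty.of_isPullback H₂ inferInstance
  have hfac := K846.Facts.hilbFacts K (K846.Ascent.isAmple_pullback p hL)
  have hfac₂ := K846.Facts.hilbFacts K₂ (K846.Ascent.isAmple_pullback p₂ hL)
  have h1 := (isZero_iff f σ pt p H σ₂ pt₂ p₂ H₂ hs hL hM hfl).not.1 h0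
  rw [K846.Gies.natDegree_eq hfac (FormalB.PullCoh.isCoh_pullback p hM) h0,
    K846.Gies.natDegree_eq hfac₂ (FormalB.PullCoh.isCoh_pullback p₂ hM) h1,
    hp_eq f σ pt p H σ₂ pt₂ p₂ H₂ hs hL hM hfl]

end General

section DVR

variable {R : Type u} [CommRing R] [IsDomain R] [IsDiscreteValuationRing R] {X : Scheme.{u}}
  (f : X ⟶ Spec (CommRingCat.of R)) [IsProper f] {L : X.Modules} (hL : CohB1.IsAmple L)

theorem isAffineHom_fiberι {X S : Scheme.{u}} (f : X ⟶ S) (hS : IsAffine S) (y : S) :
    IsAffineHom (f.fiberι y) := by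
  have h2 : IsPullback (f.fiberι y) (f.fiberToSpecResidueField y) f
    (S.fromSpecResidueField y) := IsPullback.of_hasPullback _ _
  exact MorphismProperty.of_isPullback h2.flip inferInstance

include hL

theorem fiber_isZero_iff {M : X.Modules} (hM : Coh.IsCoh M) (hfl : FlatMod.IsFlatOver f M) :
    IsZero ((Scheme.Modules.pullback (f.fiberι (genericPoint (Spec (CommRingCat.of R))))).obj M) ↔
      IsZero ((Scheme.Modules.pullback (f.fiberι (IsLocalRing.closedPoint R))).obj M) := by
  have hloc : IsLocallyNoetherian X := LocallyOfFiniteType.isLocallyNoetherian f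
  let s : ↥(Spec (CommRingCat.of R)) := IsLocalRing.closedPoint R
  let η : ↥(Spec (CommRingCat.of R)) := genericPoint (Spec (CommRingCat.of R))
  have ha := isAffineHom_fiberι f inferInstance s
  have hb := isAffineHom_fiberι f inferInstance η
  let _ : (f.fiber s).Over (Spec (CommRingCat.of ((Spec (CommRingCat.of R)).residueField s))) :=
    ⟨f.fiberToSpecResidueField s⟩
  let _ : (f.fiber η).Over (Spec (CommRingCat.of ((Spec (CommRingCat.of R)).residueField η))) :=
    ⟨f.fiberToSpecResidueField η⟩
  exact isZero_iff f (K := (Spec (CommRingCat.of R)).residueField η)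
    (K₂ := (Spec (CommRingCat.of R)).residueField s)
    ((Spec (CommRingCat.of R)).fromSpecResidueField η) (IsLocalRing.closedPoint _) (f.fiberι η)
    (IsPullback.of_hasPullback _ _)
    ((Spec (CommRingCat.of R)).fromSpecResidueField s) (IsLocalRing.closedPoint _) (f.fiberι s)
    (IsPullback.of_hasPullback _ _)
    ((specializes_of_eq (Scheme.fromSpecResidueField_apply η _)).trans
      ((genericPoint_specializes s).trans (specializes_of_eq (Scheme.fromSpecResidueField_apply s _).symm))) hL hM hfl

theorem fiber_dim_eq {M : X.Modules} (hM : Coh.IsCoh M) (hfl : FlatMod.IsFlatOver f M)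
    (h0 : ¬ IsZero ((Scheme.Modules.pullback (f.fiberι (genericPoint (Spec (CommRingCat.of R))))).obj M)) :
    topologicalKrullDim (CohB1.support
      ((Scheme.Modules.pullback (f.fiberι (genericPoint (Spec (CommRingCat.of R))))).obj M)) =
    topologicalKrullDim (CohB1.support
      ((Scheme.Modules.pullback (f.fiberι (IsLocalRing.closedPoint R))).obj M)) := by
  have hloc : IsLocallyNoetherian X := LocallyOfFiniteType.isLocallyNoetherian f
  let s : ↥(Spec (CommRingCat.of R)) := IsLocalRing.closedPoint R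
  let η : ↥(Spec (CommRingCat.of R)) := genericPoint (Spec (CommRingCat.of R))
  have ha := isAffineHom_fiberι f inferInstance s
  have hb := isAffineHom_fiberι f inferInstance η
  let _ : (f.fiber s).Over (Spec (CommRingCat.of ((Spec (CommRingCat.of R)).residueField s))) :=
    ⟨f.fiberToSpecResidueField s⟩
  let _ : (f.fiber η).Over (Spec (CommRingCat.of ((Spec (CommRingCat.of R)).residueField η))) :=
    ⟨f.fiberToSpecResidueField η⟩
  exact dim_eq f (K := (Spec (CommRingCat.of R)).residueField η)
    (K₂ := (Spec (CommRingCat.of R)).residueField s)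
    ((Spec (CommRingCat.of R)).fromSpecResidueField η) (IsLocalRing.closedPoint _) (f.fiberι η)
    (IsPullback.of_hasPullback _ _)
    ((Spec (CommRingCat.of R)).fromSpecResidueField s) (IsLocalRing.closedPoint _) (f.fiberι s)
    (IsPullback.of_hasPullback _ _)
    ((specializes_of_eq (Scheme.fromSpecResidueField_apply η _)).trans
      ((genericPoint_specializes s).trans (specializes_of_eq (Scheme.fromSpecResidueField_apply s _).symm)))
    hL hM hfl h0

end DVR

/-- Ample invertible modules on projective schemes. -/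
theorem exists_isAmple {R : Type u} [CommRing R] {X : Scheme.{u}} {m : ℕ} (ι : X ⟶ CohB1.ProjSpace m R)
    (h : IsClosedImmersion ι) : ∃ L : X.Modules, CohB1.IsAmple L :=
  ⟨_, K846.Ascent.isAmple_pullback ι (S10962.isAmple_of_pos R m (d := 1) one_pos)⟩

end K981.FibHilb
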