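import Groth.Agent.NonPure.K981.Factor
import Groth.Agent.CurvSt.K898.Factor
import Groth.Agent.GIT.K686.H0bc
import Groth.Agent.S2387
import Groth.Agent.S2393
import Mathlib.AlgebraicGeometry.Morphisms.FlatMono

/-!
# From a family inside `Y` near a fibre to a morphism to the base of `Y`
-/

set_option autoImplicit false
universe u

open CategoryTheory CategoryTheory.Limits AlgebraicGeometry TopologicalSpace Opposite
open Groth.Agent

namespace K981.FibreStep

/-- A morphism with a common base change in source and target is an isomorphism on that base change. -/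
theorem isIso_map {X Y Z T T' F : Scheme.{u}} (f : X ⟶ Y) (g : X ⟶ Z) (h : Y ⟶ Z) (w : f ≫ h = g) (t : T ⟶ Z)
    (t' : T' ⟶ Z) (e : T ⟶ T') [IsIso e] (he : e ≫ t' = t) {l : F ⟶ X} {s : F ⟶ T} (h1 : IsPullback l s g t)
    (h2 : IsPullback (l ≫ f) s h t) :
    IsIso (pullback.map g t' h t' f (𝟙 _) (𝟙 _) (by rw [Category.comp_id, w])
      (by rw [Category.comp_id, Category.id_comp])) := by
  have h1' : IsPullback l (s ≫ e) g t' := h1.of_iso (Iso.refl _) (Iso.refl _) (asIso e) (Iso.refl _)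
    (by simp) (by simp) (by simp) (by simp [he])
  have h2' : IsPullback (l ≫ f) (s ≫ e) h t' := h2.of_iso (Iso.refl _) (Iso.refl _) (asIso e) (Iso.refl _)
    (by simp) (by simp) (by simp) (by simp [he])
  have h3 : pullback.map g t' h t' f (𝟙 _) (𝟙 _) (by rw [Category.comp_id, w])
      (by rw [Category.comp_id, Category.id_comp]) = h1'.isoPullback.inv ≫ h2'.isoPullback.hom := by
    apply pullback.hom_ext
    · simp only [Category.assoc, IsPullback.isoPullback_hom_fst, IsPullback.isoPullback_inv_fst_assoc]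
      exact pullback.lift_fst _ _ _
    · simp only [Category.assoc, IsPullback.isoPullback_hom_snd, IsPullback.isoPullback_inv_snd]
      exact (pullback.lift_snd _ _ _).trans (Category.comp_id _)
  rw [h3]
  infer_instance

variable {H Z X Y B : Scheme.{u}}

theorem isPullback_fib {π : Y ⟶ B} {φ : B ⟶ H} {p : Z ⟶ H} {v : Y ⟶ Z} (hv : IsPullback v π p φ) (b : B) :
    IsPullback (π.fiberι b ≫ v) (π.fiberToSpecResidueField b) p
      (Spec.map (φ.residueFieldMap b) ≫ H.fromSpecResidueField (φ b)) := by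
  rw [Scheme.Hom.SpecMap_residueFieldMap_fromSpecResidueField]
  exact IsPullback.paste_horiz (IsPullback.of_hasPullback π (B.fromSpecResidueField b)) hv

/-- `κ(h) = Γ(Z_h, O)`. -/
theorem bijective_algebraMap {π : Y ⟶ B} {φ : B ⟶ H} {p : Z ⟶ H} {v : Y ⟶ Z} [IsProper p]
    (hv : IsPullback v π p φ) (b : B) (hb : Function.Bijective (π.fiberToSpecResidueField b).appTop) :
    Function.Bijective (algebraMap (H.residueField (φ b)) Γ(p.fiber (φ b), ⊤)) := by
  have h1 := (K686.H0bc.bijective_fibre_iff p (Field.toIsField (B.residueField b)) _ (φ b)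
    (φ.residueFieldMap b) rfl (isPullback_fib hv b)).mp hb
  have h2 : (algebraMap (H.residueField (φ b)) Γ(p.fiber (φ b), ⊤) : H.residueField (φ b) → Γ(p.fiber (φ b), ⊤)) =
      (p.fiberToSpecResidueField (φ b)).appTop ∘ (Scheme.ΓSpecIso (H.residueField (φ b))).inv := rfl
  rw [h2, Function.Bijective.of_comp_iff _
    (ConcreteCategory.bijective_of_isIso (Scheme.ΓSpecIso (H.residueField (φ b))).inv)]
  exact h1

theorem exists_of_isPullback {X Y S T : Scheme.{u}} {f : T ⟶ X} {g : T ⟶ Y} {f' : X ⟶ S} {g' : Y ⟶ S}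
    (h : IsPullback f g f' g') (x : X) (y : Y) (hxy : f' x = g' y) : ∃ t : T, f t = x ∧ g t = y := by
  obtain ⟨z, hz1, hz2⟩ := Scheme.Pullback.exists_preimage_pullback x y hxy
  refine ⟨h.isoPullback.inv z, ?_, ?_⟩
  · rw [← hz1, ← Scheme.Hom.comp_apply, h.isoPullback_inv_fst]
  · rw [← hz2, ← Scheme.Hom.comp_apply, h.isoPullback_inv_snd]

/-- The intermediate data. -/
structure Dat (π : Y ⟶ B) (p : Z ⟶ H) (i : Y ⟶ X) (q : Z ⟶ X) (b : B) (h : H) where
  /-- the neighbourhood -/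
  V : Scheme.{u}
  /-- its inverse image -/
  W : Scheme.{u}
  /-- the open immersion -/
  j : V ⟶ H
  [hj : IsOpenImmersion j]
  /-- the morphism to the base -/
  a : V ⟶ B
  /-- the open immersion -/
  k : W ⟶ Z
  /-- the structure morphism -/
  s : W ⟶ V
  /-- the morphism to `Y` -/
  y : W ⟶ Y
  mem : h ∈ Set.range j
  sq : IsPullback k s p j
  hy : y ≫ i = k ≫ q
  ha : s ≫ a = y ≫ π

theorem exists_dat [IsLocallyNoetherian H] [IsLocallyNoetherian X] {π : Y ⟶ B} {φ : B ⟶ H} {p : Z ⟶ H}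
    {v : Y ⟶ Z} [IsProper p] [Flat p] (hv : IsPullback v π p φ) (q : Z ⟶ X) (i : Y ⟶ X) [IsClosedImmersion i]
    (hvq : v ≫ q = i) (b : B) (hb : Function.Bijective (π.fiberToSpecResidueField b).appTop)
    (hvan : ∀ w : (Scheme.Modules.pullback (π.fiberι b)).obj (Omega.conormal i) ⟶
      Coh.structureModule (π.fiber b), w = 0) : Nonempty (Dat π p i q b (φ b)) := by
  obtain ⟨U₀, hU₀, hiso⟩ := Groth.Agent.S2393.result p (φ b) (bijective_algebraMap hv b hb)
  obtain ⟨U₁, hU₁, y₁, hy₁⟩ := Factor.exists_factor p q i (φ b) (Field.toIsField (B.residueField b))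
    (φ.residueFieldMap b) (isPullback_fib hv b) (π.fiberι b) (by rw [Category.assoc, hvq]) hvan
  let U : H.Opens := U₀ ⊓ U₁
  have hU : φ b ∈ U := ⟨hU₀, hU₁⟩
  let y₂ : (p ⁻¹ᵁ U : Z.Opens).toScheme ⟶ Y := Z.homOfLE (p.preimage_mono inf_le_right) ≫ y₁
  have hy₂ : y₂ ≫ i = (p ⁻¹ᵁ U).ι ≫ q := by
    rw [Category.assoc, hy₁, Scheme.homOfLE_ι_assoc]
  have hc : IsClosedMap (p ∣_ U) := (p ∣_ U).isClosedMap
  have hP : ∀ V : (U : Scheme.{u}).Opens, V ≤ ⊤ → IsIso ((p ∣_ U).app V) := by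
    intro V _
    have h2 := hiso (U.ι ''ᵁ V) ((Scheme.Opens.ι_image_le _ _).trans inf_le_left)
    rw [morphismRestrict_app]
    have h3 : IsIso (Z.presheaf.map (eqToHom (image_morphismRestrict_preimage p U V)).op) := inferInstance
    exact @IsIso.comp_isIso _ _ _ _ _ _ _ h2 h3
  have hz : ∀ x : (p ⁻¹ᵁ U : Z.Opens).toScheme, (p ∣_ U) x = ⟨φ b, hU⟩ → (y₂ ≫ π) x = b := by
    intro x hx
    have h1 : p ((p ⁻¹ᵁ U).ι x) = φ b := by
      rw [← Scheme.Hom.comp_apply, ← morphismRestrict_ι, Scheme.Hom.comp_apply, hx]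
      rfl
    let pt : Spec (B.residueField b) := IsLocalRing.closedPoint (B.residueField b)
    have hpt : (Spec.map (φ.residueFieldMap b) ≫ H.fromSpecResidueField (φ b)) pt = φ b := by
      rw [Scheme.Hom.comp_apply]
      exact H.fromSpecResidueField_apply _ _
    obtain ⟨f, hf1, -⟩ := exists_of_isPullback (isPullback_fib hv b) ((p ⁻¹ᵁ U).ι x) pt (h1.trans hpt.symm)
    have h2 : i (y₂ x) = i (π.fiberι b f) := by
      rw [← Scheme.Hom.comp_apply, hy₂, Scheme.Hom.comp_apply, ← hf1, ← Scheme.Hom.comp_apply, Category.assoc,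
        hvq, Scheme.Hom.comp_apply]
    have h3 : y₂ x = π.fiberι b f := i.isClosedEmbedding.injective h2
    rw [Scheme.Hom.comp_apply, h3]
    have h4 : π.fiberι b f ∈ π ⁻¹' {b} := by
      rw [← π.range_fiberι b]
      exact ⟨f, rfl⟩
    exact h4
  obtain ⟨V, hV, -, a, ha⟩ := K898.Factor.exists_factor_local (p ∣_ U) hc (y₂ ≫ π) ⊤ hP ⟨φ b, hU⟩ trivial b hz
  refine ⟨{ V := V, W := ((p ∣_ U) ⁻¹ᵁ V : (p ⁻¹ᵁ U : Z.Opens).toScheme.Opens), j := V.ι ≫ U.ι, a := a, 
            k := ((p ∣_ U) ⁻¹ᵁ V).ι ≫ (p ⁻¹ᵁ U).ι, s := (p ∣_ U) ∣_ V, y := ((p ∣_ U) ⁻¹ᵁ V).ι ≫ y₂, mem := ?_, sq := ?_, hy := ?_, ha := ?_ }⟩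
  · exact ⟨⟨⟨φ b, hU⟩, hV⟩, rfl⟩
  · exact (isPullback_morphismRestrict (p ∣_ U) V).flip.paste_horiz (isPullback_morphismRestrict p U).flip
  · rw [Category.assoc, hy₂, Category.assoc]
  · exact ha.trans (Category.assoc _ _ _).symm

variable {p : Z ⟶ H} {q : Z ⟶ X} {i : Y ⟶ X} {π : Y ⟶ B} {b : B}

/-- **The family is the pull-back of `Y` near the fibre.** -/
theorem exists_square [IsLocallyNoetherian H] {φ : B ⟶ H}
    {v : Y ⟶ Z} [IsProper p] [Flat p] (hv : IsPullback v π p φ) [Mono i] [IsProper π] [Flat π] [Surjective π]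
    (hvq : v ≫ q = i) (D : Dat π p i q b (φ b)) :
    ∃ (V W : Scheme.{u}) (j : V ⟶ H) (_ : IsOpenImmersion j) (a : V ⟶ B) (k : W ⟶ Z) (s : W ⟶ V) (y : W ⟶ Y),
      φ b ∈ Set.range j ∧ IsPullback k s p j ∧ IsPullback y s π a ∧ y ≫ i = k ≫ q := by
  obtain ⟨V, W, j, a, k, s, y, hmem, sq, hy, ha⟩ := D
  have hVn : IsLocallyNoetherian V := LocallyOfFiniteType.isLocallyNoetherian j
  have hs1 : IsProper s := MorphismProperty.of_isPullback sq inferInstance
  have hs2 : Flat s := MorphismProperty.of_isPullback sq inferInstance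
  -- the point
  let t : Spec (B.residueField b) ⟶ H := Spec.map (φ.residueFieldMap b) ≫ H.fromSpecResidueField (φ b)
  have ht : ∀ x, t x = φ b := fun x => by
    rw [Scheme.Hom.comp_apply]
    exact H.fromSpecResidueField_apply _ _
  have hrange : Set.range t ⊆ Set.range j := by
    rintro _ ⟨x, rfl⟩
    rw [ht]
    exact hmem
  let t₁ : Spec (B.residueField b) ⟶ V := IsOpenImmersion.lift j t hrange
  have ht₁ : t₁ ≫ j = t := IsOpenImmersion.lift_fac _ _ _
  -- the fibre as a base change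
  have hF := isPullback_fib hv b
  let l : π.fiber b ⟶ W := sq.lift (π.fiberι b ≫ v) (π.fiberToSpecResidueField b ≫ t₁) (by
    rw [hF.w, Category.assoc, ht₁])
  have hl1 : l ≫ k = π.fiberι b ≫ v := sq.lift_fst _ _ _
  have hl2 : l ≫ s = π.fiberToSpecResidueField b ≫ t₁ := sq.lift_snd _ _ _
  have hl : IsPullback l (π.fiberToSpecResidueField b) s t₁ :=
    IsPullback.of_right (by rw [hl1, ht₁]; exact hF) hl2 sq
  have hly : l ≫ y = π.fiberι b := by
    rw [← cancel_mono i, Category.assoc, hy, ← Category.assoc, hl1, Category.assoc, hvq]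
  have hsurj : Surjective (π.fiberToSpecResidueField b) := inferInstanceAs (Surjective (pullback.snd _ _))
  have hflat : Flat (π.fiberToSpecResidueField b) := inferInstanceAs (Flat (pullback.snd _ _))
  have : Epi (π.fiberToSpecResidueField b) := Flat.epi_of_flat_of_surjective _
  have hta : t₁ ≫ a = B.fromSpecResidueField b := by
    rw [← cancel_epi (π.fiberToSpecResidueField b), ← Category.assoc, ← hl2, Category.assoc, ha, ← Category.assoc,
      hly]
    exact π.fiber_fac b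
  have hmono : Mono t₁ := by
    have : Mono (t₁ ≫ a) := by rw [hta]; infer_instance
    exact mono_of_mono t₁ a
  -- the residue field
  let v₁ : V := t₁ (IsLocalRing.closedPoint (B.residueField b))
  let ψ₁ : V.residueField v₁ ⟶ CommRingCat.of (B.residueField b) :=
    Scheme.descResidueField (Scheme.stalkClosedPointTo (R := CommRingCat.of (B.residueField b)) t₁)
  have hψ : Spec.map ψ₁ ≫ V.fromSpecResidueField v₁ = t₁ :=
    Scheme.descResidueField_stalkClosedPointTo_fromSpecResidueField (B.residueField b) V t₁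
  obtain ⟨hf1, hf2⟩ := Factor.flat_surjective_specMap (Field.toIsField (V.residueField v₁))
    (Field.toIsField (B.residueField b)) ψ₁
  have : Mono (Spec.map ψ₁) := by
    have : Mono (Spec.map ψ₁ ≫ V.fromSpecResidueField v₁) := by rw [hψ]; exact hmono
    exact mono_of_mono _ (V.fromSpecResidueField v₁)
  have : IsIso (Spec.map ψ₁) := Flat.isIso_of_surjective_of_mono _
  -- the comparison
  let f : W ⟶ pullback π a := pullback.lift y s ha.symm
  have hf : f ≫ pullback.snd π a = s := pullback.lift_snd _ _ _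
  have hf' : f ≫ pullback.fst π a = y := pullback.lift_fst _ _ _
  have hfib : IsPullback (l ≫ f) (π.fiberToSpecResidueField b) (pullback.snd π a) t₁ := by
    refine IsPullback.of_right ?_ (by rw [Category.assoc, hf, hl2]) (IsPullback.of_hasPullback π a)
    rw [Category.assoc, hf', hly, hta]
    exact IsPullback.of_hasPullback π (B.fromSpecResidueField b)
  have hiso : IsIso (CohIII.fiberMapOver f s (pullback.snd π a) hf v₁) :=
    isIso_map f s (pullback.snd π a) hf t₁ (V.fromSpecResidueField v₁) (Spec.map ψ₁) hψ hl hfib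
  obtain ⟨U, hU, hI⟩ := Groth.Agent.S2387.result f s (pullback.snd π a) hf v₁
  have h1 : IsPullback (f ⁻¹ᵁ (pullback.snd π a ⁻¹ᵁ U)).ι
      ((f ∣_ (pullback.snd π a ⁻¹ᵁ U)) ≫ (pullback.snd π a ∣_ U)) s U.ι := by
    have h2 := (isPullback_morphismRestrict f (pullback.snd π a ⁻¹ᵁ U)).flip.paste_vert
      (isPullback_morphismRestrict (pullback.snd π a) U).flip
    rw [hf] at h2
    exact h2
  have h3 : IsPullback ((pullback.snd π a ⁻¹ᵁ U).ι ≫ pullback.fst π a) (pullback.snd π a ∣_ U) π (U.ι ≫ a) :=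
    (isPullback_morphismRestrict (pullback.snd π a) U).flip.paste_horiz (IsPullback.of_hasPullback π a)
  have h4 : IsPullback ((f ⁻¹ᵁ (pullback.snd π a ⁻¹ᵁ U)).ι ≫ y)
      ((f ∣_ (pullback.snd π a ⁻¹ᵁ U)) ≫ (pullback.snd π a ∣_ U)) π (U.ι ≫ a) := by
    refine h3.of_iso (asIso (f ∣_ (pullback.snd π a ⁻¹ᵁ U))).symm (Iso.refl _) (Iso.refl _) (Iso.refl _) ?_ ?_ ?_ ?_
    · rw [Iso.refl_hom, Category.comp_id, ← hf', Iso.symm_hom, asIso_inv, ← morphismRestrict_ι_assoc,
        IsIso.inv_hom_id_assoc]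
    · rw [Iso.refl_hom, Category.comp_id, Iso.symm_hom, asIso_inv, IsIso.inv_hom_id_assoc]
    · simp
    · simp
  refine ⟨U, _, U.ι ≫ j, inferInstance, U.ι ≫ a, _, _, _, ?_, h1.paste_horiz sq, h4, ?_⟩
  · refine ⟨⟨v₁, hU⟩, ?_⟩
    have h5 : j v₁ = t (IsLocalRing.closedPoint (B.residueField b)) := by
      rw [← ht₁]
      rfl
    exact h5.trans (ht _)
  · rw [Category.assoc, Category.assoc, hy]

end K981.FibreStep
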