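import Groth.Agent.S6292
import Mathlib.Algebra.Homology.ShortComplex.ExactFunctor
import Mathlib.Algebra.Category.ModuleCat.Abelian
import Mathlib.Algebra.Homology.ShortComplex.ModuleCat
import Mathlib.RingTheory.FiniteLength
import Mathlib.RingTheory.SimpleModule.Basic

/-!
# Vanishing of homomorphisms into a module of finite length by devissage
-/

set_option autoImplicit false
universe u v w

open CategoryTheory CategoryTheory.Limits

namespace K981.HomVan

variable {R : Type u} [CommRing R] {C : Type v} [Category.{w} C] [Abelian C]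

/-- The short exact sequence of a submodule. -/
noncomputable def ses (M : Type u) [AddCommGroup M] [Module R M] (N : Submodule R M) :
    ShortComplex (ModuleCat.{u} R) :=
  ShortComplex.mk (ModuleCat.ofHom N.subtype) (ModuleCat.ofHom N.mkQ) (by
    ext x
    simp)

theorem shortExact_ses (M : Type u) [AddCommGroup M] [Module R M] (N : Submodule R M) :
    (ses M N).ShortExact where
  exact := by
    rw [ShortComplex.moduleCat_exact_iff_range_eq_ker]
    change LinearMap.range N.subtype = LinearMap.ker N.mkQ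
    rw [Submodule.range_subtype, Submodule.ker_mkQ]
  mono_f := by
    rw [ModuleCat.mono_iff_injective]
    exact N.injective_subtype
  epi_g := by
    rw [ModuleCat.epi_iff_surjective]
    exact N.mkQ_surjective

/-- A quotient `R / J` killed by a power of the maximal ideal `m` is `R / m`. -/
theorem eq_of_pow_smul {m J : Ideal R} [m.IsMaximal] (hJ : J.IsMaximal) {Q : Type u} [AddCommGroup Q] [Module R Q]
    (e : Q ≃ₗ[R] R ⧸ J) (n : ℕ) (hn : ∀ a ∈ m ^ n, ∀ x : Q, a • x = 0) : J = m := by
  refine (Ideal.IsMaximal.eq_of_le ‹m.IsMaximal› hJ.ne_top ?_).symm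
  refine hJ.isPrime.le_of_pow_le (n := n) ?_
  intro a ha
  have h1 := congrArg e (hn a ha (e.symm (Ideal.Quotient.mk J 1)))
  rw [map_smul, LinearEquiv.apply_symm_apply, map_zero] at h1
  rw [← Ideal.Quotient.eq_zero_iff_mem]
  rw [← h1]
  have h2 : a • (Ideal.Quotient.mk J 1) = Ideal.Quotient.mk J (a • (1 : R)) := rfl
  rw [h2, smul_eq_mul, mul_one]

/-- Homomorphisms into the values of a left exact functor on modules of finite length vanish if they do for the
residue field. -/
theorem hom_eq_zero (G : ModuleCat.{u} R ⥤ C) [G.Additive] [PreservesFiniteLimits G] (F : C) (m : Ideal R)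
    [m.IsMaximal] (h0 : ∀ v : F ⟶ G.obj (ModuleCat.of R (R ⧸ m)), v = 0) {M : Type u} [AddCommGroup M] [Module R M]
    (hM : IsFiniteLength R M) (n : ℕ) (hn : ∀ a ∈ m ^ n, ∀ x : M, a • x = 0) :
    ∀ v : F ⟶ G.obj (ModuleCat.of R M), v = 0 := by
  induction hM with
  | of_subsingleton =>
    intro v
    rename_i M' _ _ _
    have h1 : IsZero (ModuleCat.of R M') := ModuleCat.isZero_of_subsingleton _
    exact (G.map_isZero h1).eq_of_tgt _ _
  | of_simple_quotient hN ih =>
    rename_i M' _ _ N hs
    intro v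
    have ih' := ih (fun a ha x => Subtype.ext (hn a ha x.1))
    obtain ⟨J, hJ, ⟨e⟩⟩ := isSimpleModule_iff_quot_maximal.mp hs
    have hJm : J = m := eq_of_pow_smul hJ e n (fun a ha x => by
      obtain ⟨y, rfl⟩ := N.mkQ_surjective x
      rw [← map_smul, hn a ha, map_zero])
    subst hJm
    have h2 : v ≫ G.map (ses M' N).g = 0 := by
      let e' : (ses M' N).X₃ ≅ ModuleCat.of R (R ⧸ J) := e.toModuleIso
      have h3 := h0 ((v ≫ G.map (ses M' N).g) ≫ (G.mapIso e').hom)
      exact (cancel_mono (G.mapIso e').hom).mp (h3.trans zero_comp.symm)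
    have h4 := shortExact_ses M' N
    have : Mono (ses M' N).f := h4.mono_f
    have : Mono ((ses M' N).map G).f := inferInstanceAs (Mono (G.map (ses M' N).f))
    have h5 : ((ses M' N).map G).Exact := ShortComplex.Exact.map_of_mono_of_preservesKernel h4.exact G h4.mono_f
      inferInstance
    have h6 : h5.lift v h2 ≫ G.map (ses M' N).f = v := h5.lift_f v h2
    have h7 : h5.lift v h2 = 0 := ih' _
    rw [← h6, h7]
    exact zero_comp

/-- The case `M = R / m ^ n`. -/
theorem hom_quot_pow_eq_zero (G : ModuleCat.{u} R ⥤ C) [G.Additive] [PreservesFiniteLimits G] (F : C) (m : Ideal R)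
    [m.IsMaximal] (hm : m.FG) (h0 : ∀ v : F ⟶ G.obj (ModuleCat.of R (R ⧸ m)), v = 0) (n : ℕ)
    (v : F ⟶ G.obj (ModuleCat.of R (R ⧸ m ^ n))) : v = 0 := by
  have h1 : ∀ a ∈ m ^ n, ∀ x : R ⧸ m ^ n, a • x = 0 := by
    intro a ha x
    obtain ⟨y, rfl⟩ := Ideal.Quotient.mk_surjective x
    have h2 : a • (Ideal.Quotient.mk (m ^ n) y) = Ideal.Quotient.mk (m ^ n) (a • y) := rfl
    rw [h2, Ideal.Quotient.eq_zero_iff_mem, smul_eq_mul]
    exact Ideal.mul_mem_right _ _ ha
  refine hom_eq_zero G F m h0 (Groth.Agent.S6292.result m hm (R ⧸ m ^ n) n ?_) n h1 v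
  rw [eq_bot_iff, Submodule.smul_le]
  intro a ha x _
  rw [h1 a ha x]
  exact Submodule.zero_mem _

end K981.HomVan
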