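import Groth.Agent.PerfA.IdealModule
import Groth.Agent.CurvesB.RankOneMono
import Groth.Agent.Lipman.Loc
import Groth.Prelude.Def_KLin

/-!
# Morphisms between ideal sheaves on an integral scheme

Every morphism `φ : I_W ⟶ I_{W'}` between ideal modules on an integral scheme is multiplication by a
rational function `f`.  If `W = W' ≠ ⊥` and `X` is locally Noetherian and normal, `f` is a global function.
-/

set_option autoImplicit false
universe u
open CategoryTheory CategoryTheory.Limits AlgebraicGeometry Opposite TopologicalSpace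

namespace K981.IdealEnd

open Groth.Agent.PerfA.IdealModule Groth.Agent.CohqB.QC2 Groth.Agent.CohqB.FiniteType2
open Groth.Agent.Lipman.Loc Groth.Agent.CurvesB.RankOne

variable {X : Scheme.{u}}

/-- Any morphism of ideal modules commutes with restriction. -/
theorem app_res' {F G : X.Modules} (φ : F ⟶ G) {U V : X.Opens} (h : V ≤ U) (s : Γ(F, U)) :
    φ.app V (F.presheaf.map (homOfLE h).op s) = G.presheaf.map (homOfLE h).op (φ.app U s) :=
  congr($(φ.mapPresheaf.naturality (homOfLE h).op) s)

theorem val_mul_comm {W : X.IdealSheafData} {G : X.Modules} (φ : ClSub.idealMod W ⟶ G) (V : X.Opens)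
    (a b : Γ(ClSub.idealMod W, V)) :
    val W b • φ.app V a = val W a • φ.app V b := by
  have h : val W b • a = val W a • b := val_injective W V (by rw [val_smul, val_smul, mul_comm])
  rw [← Scheme.Modules.Hom.app_smul, ← Scheme.Modules.Hom.app_smul, h]

theorem val_map {U V : X.Opens} (W : X.IdealSheafData) (h : V ≤ U) (x : Γ(ClSub.idealMod W, U)) :
    val W ((ClSub.idealMod W).presheaf.map (homOfLE h).op x) = X.presheaf.map (homOfLE h).op (val W x) :=
  val_res W h x

theorem val_ne_zero (W : X.IdealSheafData) {V : X.Opens} {a : Γ(ClSub.idealMod W, V)} (ha : a ≠ 0) :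
    val W a ≠ 0 := fun h => ha (val_injective W V (by rw [h, val_zero]))

/-- A nonzero ideal sheaf has a nonzero section over some affine open. -/
theorem exists_section_ne_zero {W : X.IdealSheafData} (hW : W ≠ ⊥) :
    ∃ (U : X.affineOpens) (a : Γ(ClSub.idealMod W, U.1)), a ≠ 0 := by
  by_contra h
  push Not at h
  apply hW
  refine Scheme.IdealSheafData.ext (funext fun U => ?_)
  rw [Scheme.IdealSheafData.ideal_bot, Pi.bot_apply, eq_bot_iff]
  intro x hx
  obtain ⟨a, rfl⟩ := exists_val_eq W U hx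
  rw [h U a, val_zero]
  exact Ideal.zero_mem _

variable [IsIntegral X]

omit [IsIntegral X] in
/-- If `I_W` has a nonzero section then `W ≠ ⊥`. -/
theorem ne_bot_of_section {W : X.IdealSheafData} {V : X.Opens} {a : Γ(ClSub.idealMod W, V)} (ha : a ≠ 0) :
    W ≠ ⊥ := by
  rintro rfl
  apply ha
  apply val_injective
  rw [val_zero]
  have hx : ∀ x : X, x ∈ V → ∃ (U : X.Opens) (h : U ≤ V), x ∈ U ∧
      X.presheaf.map (homOfLE h).op (val ⊥ a) = 0 := by
    intro x hx
    obtain ⟨U, hU, hxU, hUV'⟩ := exists_isAffineOpen_mem_and_subset (X := X) (x := x) (U := V) hx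
    have hUV : U ≤ V := hUV'
    refine ⟨U, hUV, hxU, ?_⟩
    rw [← val_map]
    have := val_mem ⊥ ⟨U, hU⟩ ((ClSub.idealMod ⊥).presheaf.map (homOfLE hUV).op a)
    rw [Scheme.IdealSheafData.ideal_bot, Pi.bot_apply] at this
    exact this
  refine Groth.Agent.Ega2.Tens.eq_of_locally_eq (Coh.structureModule X) (val ⊥ a) 0 fun x hxV => ?_
  obtain ⟨U, h, hxU, e⟩ := hx x hxV
  refine ⟨U, homOfLE h, hxU, ?_⟩
  rw [map_zero]
  exact e

/-- Rational function attached to a section of an ideal module. -/
noncomputable def rat (W : X.IdealSheafData) {V : X.Opens} [Nonempty V] (a : Γ(ClSub.idealMod W, V)) :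
    X.functionField := X.germToFunctionField V (val W a)

theorem rat_res (W : X.IdealSheafData) {U V : X.Opens} [Nonempty U] [Nonempty V] (h : V ≤ U)
    (a : Γ(ClSub.idealMod W, U)) :
    rat W ((ClSub.idealMod W).presheaf.map (homOfLE h).op a) = rat W a := by
  unfold rat
  rw [val_map, germToFunctionField_res h]

theorem rat_ne_zero (W : X.IdealSheafData) {V : X.Opens} [Nonempty V] {a : Γ(ClSub.idealMod W, V)}
    (ha : a ≠ 0) : rat W a ≠ 0 := by
  unfold rat
  rw [Ne, map_eq_zero_iff _ (X.germToFunctionField_injective V)]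
  exact val_ne_zero W ha

instance nonempty_inf {U V : X.Opens} [hU : Nonempty U] [hV : Nonempty V] : Nonempty (U ⊓ V : X.Opens) :=
  ⟨⟨genericPoint X, mem_of_nonempty, mem_of_nonempty⟩⟩

/-- A morphism of ideal modules is multiplication by a rational function. -/
theorem exists_rat {W W' : X.IdealSheafData} (hW : W ≠ ⊥) (φ : ClSub.idealMod W ⟶ ClSub.idealMod W') :
    ∃ f : X.functionField, ∀ (V : X.Opens) [Nonempty V] (b : Γ(ClSub.idealMod W, V)),
      rat W' (φ.app V b) = f * rat W b := by
  obtain ⟨U, a, ha⟩ := exists_section_ne_zero hW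
  have hU : Nonempty U.1 := by
    obtain ⟨x, hx⟩ := Groth.Agent.CurvesB.RankOneMono.nonempty_of_ne_zero ha
    exact ⟨⟨x, hx⟩⟩
  refine ⟨rat W' (φ.app U.1 a) / rat W a, fun V hV b => ?_⟩
  have ha' := rat_ne_zero W ha
  rw [div_mul_eq_mul_div, eq_div_iff ha']
  rw [← rat_res W (inf_le_left : U.1 ⊓ V ≤ U.1) a, ← rat_res W (inf_le_right : U.1 ⊓ V ≤ V) b,
    ← rat_res W' (inf_le_left : U.1 ⊓ V ≤ U.1) (φ.app U.1 a),
    ← rat_res W' (inf_le_right : U.1 ⊓ V ≤ V) (φ.app V b), ← app_res', ← app_res']
  generalize (ClSub.idealMod W).presheaf.map (homOfLE (inf_le_left : U.1 ⊓ V ≤ U.1)).op a = a'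
  generalize (ClSub.idealMod W).presheaf.map (homOfLE (inf_le_right : U.1 ⊓ V ≤ V)).op b = b'
  have h := congrArg (val W') (val_mul_comm φ _ a' b')
  rw [val_smul, val_smul] at h
  unfold rat
  rw [← map_mul, ← map_mul]
  congr 1
  rw [mul_comm, ← h, mul_comm]

/-- Two morphisms of ideal modules with the same rational function agree. -/
theorem hom_ext_rat {W W' : X.IdealSheafData} {φ ψ : ClSub.idealMod W ⟶ ClSub.idealMod W'}
    (h : ∀ (V : X.Opens) [Nonempty V] (b : Γ(ClSub.idealMod W, V)), rat W' (φ.app V b) = rat W' (ψ.app V b)) :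
    φ = ψ := by
  ext V b
  change φ.app V b = ψ.app V b
  by_cases hV : Nonempty V
  · apply val_injective W'
    apply X.germToFunctionField_injective V
    exact h V b
  · rw [not_nonempty_iff] at hV
    refine Groth.Agent.Ega2.Tens.eq_of_locally_eq _ _ _ fun x hx => ?_
    exact (hV.false ⟨x, hx⟩).elim

theorem hom_ext_of_rat {W W' : X.IdealSheafData} {φ ψ : ClSub.idealMod W ⟶ ClSub.idealMod W'} 
    {f : X.functionField}
    (hφ : ∀ (V : X.Opens) [Nonempty V] (b : Γ(ClSub.idealMod W, V)), rat W' (φ.app V b) = f * rat W b)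
    (hψ : ∀ (V : X.Opens) [Nonempty V] (b : Γ(ClSub.idealMod W, V)), rat W' (ψ.app V b) = f * rat W b) :
    φ = ψ :=
  hom_ext_rat fun V _ b => (hφ V b).trans (hψ V b).symm

end K981.IdealEnd
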