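import Groth.Agent.NonPure.K981.IdealRestr
import Groth.Agent.NonPure.K981.IdealEndK
import Groth.Agent.CurvesB.InvEmb
import Groth.Agent.Dcoh.FlatTor

/-!
# Hilbert polynomials of ideals of finite subschemes; nonzero maps of ideals are monomorphisms
-/

set_option autoImplicit false
universe u
open CategoryTheory CategoryTheory.Limits AlgebraicGeometry

namespace K981.IdealHilb

open Groth.Agent

section

variable (K : Type u) [Field K] (Y : Scheme.{u})

theorem discrete_of_isFinite {W : Scheme.{u}} (c : W ⟶ Spec (CommRingCat.of K)) [IsFinite c] :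
    DiscreteTopology W := by
  let s : ↥(Spec (CommRingCat.of K)) := (⊥ : PrimeSpectrum K)
  have h1 : _root_.IsDiscrete (c ⁻¹' {s}) := c.isDiscrete_preimage_singleton s
  have h2 : c ⁻¹' {s} = Set.univ := by
    ext x
    simp only [Set.mem_preimage, Set.mem_univ, iff_true]
    exact Subsingleton.elim (α := PrimeSpectrum K) _ _
  rw [h2] at h1
  exact isDiscrete_univ_iff.1 h1

theorem dim_support_quotMod {Y : Scheme.{u}} (D : Y.IdealSheafData) (c : D.subscheme ⟶ Spec (CommRingCat.of K)) [IsFinite c] :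
    topologicalKrullDim (CohB1.support (ClSub.quotMod D)) ≤ 0 := by
  have h1 := discrete_of_isFinite K c
  have h2 : DiscreteTopology (Set.range D.subschemeι) :=
    (D.subschemeι.isClosedEmbedding.isEmbedding.toHomeomorph).symm.isEmbedding.discreteTopology
  have h3 : CohB1.support (ClSub.quotMod D) ⊆ Set.range D.subschemeι := by
    rw [D.range_subschemeι]
    exact VarietyB.DegCartier.support_quotMod_subset D
  have h4 : DiscreteTopology (CohB1.support (ClSub.quotMod D)) := DiscreteTopology.of_subset h2 h3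
  exact topologicalKrullDim_zero_of_discreteTopology _

variable [Y.Over (Spec (CommRingCat.of K))]

theorem euler_quotMod {ℓ : ℕ} (D : Y.IdealSheafData)
    (hD : Mor2.IsFinLocFreeOfDeg ℓ (D.subschemeι ≫ (Y ↘ Spec (CommRingCat.of K)))) :
    Curv2.euler K Y (ClSub.quotMod D) = ℓ := by
  let : D.subscheme.Over (Spec (CommRingCat.of K)) := ⟨D.subschemeι ≫ (Y ↘ Spec (CommRingCat.of K))⟩
  have h := VarietyB.HHPush.euler_push D.subschemeι K rfl (Coh.structureModule D.subscheme)
    (Fdesc.StructMod.isQCoh_structureModule _)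
  exact h.trans (HilbSub.euler_finite K D.subscheme hD)

/-- The Hilbert polynomial of the ideal of a finite subscheme of degree `ℓ`. -/
theorem hilb_idealMod [IsProper (Y ↘ Spec (CommRingCat.of K))] {L : Y.Modules} (hL : PicF.IsInvertible L)
    {ℓ : ℕ} (D : Y.IdealSheafData)
    (hD : Mor2.IsFinLocFreeOfDeg ℓ (D.subschemeι ≫ (Y ↘ Spec (CommRingCat.of K)))) :
    ∃ P : Polynomial ℚ, ShStab.IsHilbPoly K Y L (Coh.structureModule Y) P ∧
      ShStab.IsHilbPoly K Y L (ClSub.idealMod D) (P - Polynomial.C (ℓ : ℚ)) := by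
  have hN : IsLocallyNoetherian Y := IdealEndK.isLocallyNoetherian (Y ↘ Spec (CommRingCat.of K))
  have hO : Coh.IsCoh (Coh.structureModule Y) := Fdesc.StructMod.isCoh_structureModule _
  have hQ : Coh.IsCoh (ClSub.quotMod D) := VarietyB.DegCartier.isCoh_quotMod D
  have hI : Coh.IsCoh (ClSub.idealMod D) := VarietyB.DegCartier.isCoh_idealMod D
  obtain ⟨P, hP⟩ := HilbSub.exists_hilb K Y hL hO
  refine ⟨P, hP, ?_⟩
  have hfin : IsFinite (D.subschemeι ≫ (Y ↘ Spec (CommRingCat.of K))) := hD.1.1
  have h1 := HilbSub.hilb_of_support K Y hL hQ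
    (dim_support_quotMod K D (D.subschemeι ≫ (Y ↘ Spec (CommRingCat.of K))))
  rw [euler_quotMod K Y D hD] at h1
  have h2 := HilbSub.sub_hilb K Y hL (VarietyB.DegCartier.idealSeq D)
    (VarietyB.DegCartier.idealSeq_shortExact D) hI hO hQ hP h1
  rw [Int.cast_natCast] at h2
  exact h2

end

section Mono

variable {X : Scheme.{u}} [IsIntegral X]

omit [IsIntegral X] in
theorem locEmb_idealMod (D : X.IdealSheafData) : CurvesB.RankOne.LocEmb (ClSub.idealMod D) :=
  CurvesB.RankOne.LocEmb.of_mono (ClSub.idealModι D)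
    (CurvesB.InvEmb.locEmb_of_isInvertible Fdesc.LocGen.isInvertible_structureModule)

/-- A nonzero map of ideals is a monomorphism. -/
theorem mono_of_ne_zero {D D' : X.IdealSheafData} (φ : ClSub.idealMod D ⟶ ClSub.idealMod D')
    (hφ : φ ≠ 0) : Mono φ :=
  Dcoh.FlatTor.mono_of_app_injective φ
    (CurvesB.RankOneMono.app_injective (locEmb_idealMod D) (locEmb_idealMod D') φ hφ)

end Mono

end K981.IdealHilb
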