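import Groth.Agent.NonPure.K981.IdealHilb
import Groth.Agent.Krr.H478.ImIdeal

/-!
# The image of a monomorphism of ideals
-/

set_option autoImplicit false
universe u
open CategoryTheory CategoryTheory.Limits AlgebraicGeometry

namespace K981.IdealImage

open Groth.Agent Groth.Agent.Krr.H478.ImIdeal Groth.Agent.Sga67.TensorOps Groth.Agent.Krr.H478.Cosection

variable {X : Scheme.{u}}

/-- The image of a monomorphism `idealMod W ⟶ idealMod Z` is the ideal of a closed subscheme containing `Z`. -/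
theorem exists_image {W Z : X.IdealSheafData} (φ : ClSub.idealMod W ⟶ ClSub.idealMod Z) [Mono φ] :
    ∃ (W₁ : X.IdealSheafData) (_ : W₁ ≤ Z) (l : ClSub.idealMod W ⟶ ClSub.idealMod W₁), IsIso l := by
  have hqc : Coh.IsQCoh (ClSub.idealMod W) := PerfA.IdealModule.isQCoh_idealMod W
  let t := φ ≫ ClSub.idealModι Z
  have ht : Mono t := mono_comp _ _
  obtain ⟨l, hl, hlt⟩ := exists_factor t (imIdeal hqc t) (fun U => rfl)
  have hlm : Mono l := by
    have : Mono (l ≫ ClSub.idealModι (imIdeal hqc t)) := by rw [hlt]; exact ht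
    exact mono_of_mono l (ClSub.idealModι (imIdeal hqc t))
  refine ⟨imIdeal hqc t, ?_, l, isIso_of_mono_of_epi l⟩
  intro U
  rw [ideal_imIdeal]
  rintro _ ⟨s, rfl⟩
  exact PerfA.IdealModule.val_mem Z U (φ.app U.1 s)

theorem exists_factor_of_eq {W Z : X.IdealSheafData} (h : W ≤ Z) (e : W = Z) {A : X.Modules}
    (φ : A ⟶ ClSub.idealMod Z) : ∃ φ' : A ⟶ ClSub.idealMod W, φ' ≫ Dix.TwistClosed490.incl h = φ := by
  subst e
  refine ⟨φ, ?_⟩
  rw [← cancel_mono (ClSub.idealModι W), Category.assoc, Dix.TwistClosed490.incl_ι]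

end K981.IdealImage
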