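import Groth.Agent.NonPure.K981.HilbSub
import Groth.Agent.Dix.TwistClosed490
import Groth.Agent.VarietyB.DegCartier
import Groth.Agent.VarietyA.StalkCrit
import Groth.Agent.CycB.ModStalk
import Groth.Agent.ShStab.K848.Hull
import Groth.Agent.Picfga.HilbPull

/-!
# The restriction of the ideal of `Z` to a closed subscheme containing `Z`

`W ≤ Z` quasi-coherent ideals of `X`, `Y = W.subscheme`:
* `rs h : Y.IdealSheafData`, the ideal of `Z` in `Y`, with `(rs h).subscheme ≅ Z.subscheme`;
* `rho h : idealMod Z ⟶ i_* idealMod (rs h)`;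
* `exists_factor_incl`: a map to `idealMod Z` killed by `rho h` factors through `idealMod W`.
-/

set_option autoImplicit false
universe u
open CategoryTheory CategoryTheory.Limits AlgebraicGeometry

namespace K981.IdealRestr

open Groth.Agent Groth.Agent.CycB.StalkExact

section Rank

variable {Y : Scheme.{u}}

theorem isTorsionFree_of_isInvertible [IsIntegral Y] {L : Y.Modules} (hL : PicF.IsInvertible L) :
    TorSh.IsTorsionFree L := by
  intro x
  obtain ⟨t, ht⟩ := CycB.ModStalk.exists_isGen hL x
  let e := LinearEquiv.ofBijective (LinearMap.toSpanSingleton (Y.presheaf.stalk x) _ t) ht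
  have h : Module.IsTorsionFree (Y.presheaf.stalk x) (Y.presheaf.stalk x) := inferInstance
  exact e.symm.injective.moduleIsTorsionFree _ fun r m => map_smul e.symm r m

theorem isTorsionFree_structureModule [IsIntegral Y] : TorSh.IsTorsionFree (Coh.structureModule Y) :=
  isTorsionFree_of_isInvertible Fdesc.LocGen.isInvertible_structureModule

instance (D : Y.IdealSheafData) : Mono (ClSub.idealModι D) := inferInstanceAs (Mono (kernel.ι _))

theorem isTorsionFree_idealMod [IsIntegral Y] (D : Y.IdealSheafData) :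
    TorSh.IsTorsionFree (ClSub.idealMod D) :=
  K848.TF.isTorsionFree_of_mono (ClSub.idealModι D) isTorsionFree_structureModule

theorem stalkLin_idealModι_bijective (D : Y.IdealSheafData) (x : Y) (hx : x ∉ D.support) :
    Function.Bijective (stalkLin (ClSub.idealModι D) x) := by
  refine ⟨stalkLin_injective _ x, ?_⟩
  have hS := VarietyB.DegCartier.idealSeq_shortExact D
  have hex := stalkLin_exact (VarietyB.DegCartier.idealSeq D) hS.exact x
  have h1 : x ∉ CohB1.support (ClSub.quotMod D) := fun h =>
    hx (VarietyB.DegCartier.support_quotMod_subset D h)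
  rw [CohqB.DevSupport.not_mem_support_iff] at h1
  have h2 : Subsingleton ((VarietyB.DegCartier.idealSeq D).X₃.presheaf.stalk x) := h1
  intro t
  exact (hex t).mp (Subsingleton.elim _ _)

theorem genericPoint_not_mem [IsIntegral Y] {D : Y.IdealSheafData} (hD : D ≠ ⊥) :
    genericPoint Y ∉ D.support := by
  intro h
  apply hD
  rw [← Scheme.IdealSheafData.support_eq_top_iff, ← top_le_iff]
  intro y _
  exact (genericPoint_specializes y).mem_closed D.support.isClosed h

theorem finrank_idealMod [IsIntegral Y] {D : Y.IdealSheafData} (hD : D ≠ ⊥) :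
    Module.finrank (Y.presheaf.stalk (genericPoint Y))
      ((ClSub.idealMod D).presheaf.stalk (genericPoint Y)) = 1 := by
  have e := LinearEquiv.ofBijective _
    (stalkLin_idealModι_bijective D (genericPoint Y) (genericPoint_not_mem hD))
  exact e.finrank_eq.trans (K848.Hull.rk_structureModule_of_isInvertible
    Fdesc.LocGen.isInvertible_structureModule)

end Rank

variable {X : Scheme.{u}}

/-- lifting maps to the ideal of a closed subscheme -/
noncomputable def lft (W : X.IdealSheafData) {A : X.Modules} (φ : A ⟶ Coh.structureModule X)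
    (h : φ ≫ ClSub.toSubscheme W = 0) : A ⟶ ClSub.idealMod W := kernel.lift _ φ h

theorem lft_ι (W : X.IdealSheafData) {A : X.Modules} (φ : A ⟶ Coh.structureModule X)
    (h : φ ≫ ClSub.toSubscheme W = 0) : lft W φ h ≫ ClSub.idealModι W = φ := kernel.lift_ι _ _ _

theorem ι_toSubscheme (W : X.IdealSheafData) : ClSub.idealModι W ≫ ClSub.toSubscheme W = 0 :=
  kernel.condition _

variable {W Z : X.IdealSheafData} (h : W ≤ Z)

/-- The ideal of `Z` in `W.subscheme`. -/
noncomputable def rs : W.subscheme.IdealSheafData := (Scheme.IdealSheafData.inclusion h).ker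

instance isIso_toImage : IsIso (Scheme.Hom.toImage (Scheme.IdealSheafData.inclusion h)) := by
  have : IsClosedImmersion (Scheme.IdealSheafData.inclusion h) := inferInstance
  infer_instance

/-- `Z.subscheme ≅ (rs h).subscheme`. -/
noncomputable def eZ : Z.subscheme ≅ (rs h).subscheme :=
  @asIso _ _ _ _ (Scheme.Hom.toImage (Scheme.IdealSheafData.inclusion h)) (isIso_toImage h)

theorem eZ_hom_ι : (eZ h).hom ≫ (rs h).subschemeι = Scheme.IdealSheafData.inclusion h :=
  (Scheme.IdealSheafData.inclusion h).toImage_imageι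

theorem eZ_hom_ι_ι : (eZ h).hom ≫ (rs h).subschemeι ≫ W.subschemeι = Z.subschemeι := by
  rw [← Category.assoc, eZ_hom_ι, Scheme.IdealSheafData.inclusion_subschemeι]

theorem eq_of_rs_eq_bot (h0 : rs h = ⊥) : W = Z := by
  have h1 : IsIso (Scheme.IdealSheafData.inclusion h) :=
    IsClosedImmersion.isIso_iff_ker_eq_bot.2 h0
  have h2 : (Scheme.IdealSheafData.inclusion h ≫ W.subschemeι).ker = W.subschemeι.ker :=
    Scheme.Hom.ker_comp_of_isIso _ _
  rw [Scheme.IdealSheafData.inclusion_subschemeι, Scheme.IdealSheafData.ker_subschemeι,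
    Scheme.IdealSheafData.ker_subschemeι] at h2
  exact h2.symm

theorem app_eq_zero_of_factor {T : Scheme.{u}} (a : T ⟶ Z.subscheme) (g : T ⟶ X)
    (hg : a ≫ Z.subschemeι = g) (U : X.Opens) (s : Γ(X, U)) (hs : Z.subschemeι.app U s = 0) :
    g.app U s = 0 := by
  subst hg
  rw [Scheme.Hom.comp_app]
  change (a.app _) (Z.subschemeι.app U s) = 0
  rw [hs, map_zero]

theorem comp_zero : (ClSub.idealModι Z ≫ ClSub.toSubscheme W) ≫
    (Scheme.Modules.pushforward W.subschemeι).map (ClSub.toSubscheme (rs h)) = 0 := by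
  apply Scheme.Modules.hom_ext
  intro U
  ext s
  have h1 : Z.subschemeι.app U ((ClSub.idealModι Z).app U s) = 0 :=
    congr(Scheme.Modules.Hom.app $(ι_toSubscheme Z) U s)
  have h2 : (eZ h).inv ≫ Z.subschemeι = (rs h).subschemeι ≫ W.subschemeι := by
    rw [Iso.inv_comp_eq, eZ_hom_ι_ι]
  have h3 := app_eq_zero_of_factor (eZ h).inv _ h2 U _ h1
  rw [Scheme.Hom.comp_app] at h3
  exact h3

/-- The direct image of an ideal is a kernel. -/
noncomputable def isoK {T : Scheme.{u}} (i : T ⟶ X) (D : T.IdealSheafData) :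
    (Scheme.Modules.pushforward i).obj (ClSub.idealMod D) ≅
      kernel ((Scheme.Modules.pushforward i).map (ClSub.toSubscheme D)) :=
  PreservesKernel.iso (Scheme.Modules.pushforward i) (ClSub.toSubscheme D)

theorem isoK_inv {T : Scheme.{u}} (i : T ⟶ X) (D : T.IdealSheafData) :
    (isoK i D).inv ≫ (Scheme.Modules.pushforward i).map (ClSub.idealModι D) = kernel.ι _ :=
  PreservesKernel.iso_inv_ι (Scheme.Modules.pushforward i) (ClSub.toSubscheme D)

/-- `idealMod Z ⟶ i_* idealMod (rs h)`. -/
noncomputable def rho : ClSub.idealMod Z ⟶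
    (Scheme.Modules.pushforward W.subschemeι).obj (ClSub.idealMod (rs h)) :=
  kernel.lift _ (ClSub.idealModι Z ≫ ClSub.toSubscheme W) (comp_zero h) ≫ (isoK W.subschemeι (rs h)).inv

theorem rho_map : rho h ≫ (Scheme.Modules.pushforward W.subschemeι).map (ClSub.idealModι (rs h)) =
    ClSub.idealModι Z ≫ ClSub.toSubscheme W := by
  unfold rho
  rw [Category.assoc, isoK_inv, kernel.lift_ι]

theorem exists_factor_incl {A : X.Modules} (φ : A ⟶ ClSub.idealMod Z) (hφ : φ ≫ rho h = 0) :
    ∃ φ' : A ⟶ ClSub.idealMod W, φ' ≫ Dix.TwistClosed490.incl h = φ := by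
  have h1 : (φ ≫ ClSub.idealModι Z) ≫ ClSub.toSubscheme W = 0 := by
    rw [Category.assoc, ← rho_map h, ← Category.assoc, hφ, zero_comp]
  refine ⟨lft W _ h1, ?_⟩
  rw [← cancel_mono (ClSub.idealModι Z), Category.assoc, Dix.TwistClosed490.incl_ι, lft_ι]

end K981.IdealRestr
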