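import Groth.Agent.NonPure.K981.HomVan
import Groth.Agent.PerfB.FlatPull
import Groth.Agent.PerfB.TildeExact
import Groth.Agent.PerfC.TildePush
import Groth.Agent.CohqA.AffineBaseChange
import Groth.Agent.PerfA.IdealModule
import Groth.Agent.Fga.UnitRestrict
import Groth.Agent.CurvesC.UnitCoh

/-!
# Sections of an ideal vanish along a fibre of a flat morphism if the ideal has no homomorphisms to the fibre
-/

set_option autoImplicit false
universe u

open CategoryTheory CategoryTheory.Limits AlgebraicGeometry TopologicalSpace Opposite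
open AlgebraicGeometry.Scheme.Modules hiding pullback
open Groth.Agent

namespace K981.KrullVan

section Unit

theorem comp_unitToPush_app {V X : Scheme.{u}} (f : V ⟶ X) {M : X.Modules} {φ : M ⟶ Coh.structureModule X}
    (h : φ ≫ ClSub.unitToPush f = 0) (U : X.Opens) (s : Γ(M, U)) : f.app U (φ.app U s : Γ(X, U)) = 0 :=
  congr(Scheme.Modules.Hom.app $h U s)

theorem hom_push_iff {T Z : Scheme.{u}} (i : T ⟶ Z) (F : Z.Modules) (G : T.Modules) :
    (∀ v : (Scheme.Modules.pullback i).obj F ⟶ G, v = 0) ↔ ∀ v : F ⟶ (pushforward i).obj G, v = 0 := by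
  constructor
  · intro h v
    have h1 := congrArg ((pullbackPushforwardAdjunction i).homEquiv _ _)
      (h (((pullbackPushforwardAdjunction i).homEquiv _ _).symm v))
    rw [Equiv.apply_symm_apply] at h1
    rw [h1, Adjunction.homEquiv_unit, Functor.map_zero, comp_zero]
  · intro h v
    have h1 := congrArg ((pullbackPushforwardAdjunction i).homEquiv _ _).symm
      (h (((pullbackPushforwardAdjunction i).homEquiv _ _) v))
    rw [Equiv.symm_apply_apply] at h1
    rw [h1, Adjunction.homEquiv_counit, Functor.map_zero, zero_comp]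

theorem hom_congr {C : Type*} [Category C] [HasZeroMorphisms C] {A A' B B' : C} (e : A ≅ A') (e' : B ≅ B')
    (h : ∀ v : A ⟶ B, v = 0) (v : A' ⟶ B') : v = 0 := by
  have h1 := h (e.hom ≫ v ≫ e'.inv)
  rw [← cancel_epi e.hom, ← cancel_mono e'.inv, Category.assoc, h1, comp_zero, zero_comp]

theorem app_eq_zero_of_hom {T X : Scheme.{u}} (q : T ⟶ X) (I : X.IdealSheafData)
    (h : ∀ v : (Scheme.Modules.pullback q).obj (ClSub.idealMod I) ⟶ Coh.structureModule T, v = 0)
    (V : X.affineOpens) {a : Γ(X, V.1)} (ha : a ∈ I.ideal V) : q.app V.1 a = 0 := by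
  obtain ⟨x, hx⟩ := PerfA.IdealModule.exists_val_eq I V ha
  have h1 : ClSub.idealModι I ≫ ClSub.unitToPush q = 0 := (hom_push_iff q _ _).mp h _
  have h2 := comp_unitToPush_app q h1 V.1 x
  rw [← hx]
  exact h2

end Unit

theorem appLE_res_eq_zero {T Z : Scheme.{u}} (i : T ⟶ Z) {U W : Z.Opens} (h : W ≤ U) (y : Γ(Z, U))
    (hy : i.app U y = 0) : i.appLE W (i ⁻¹ᵁ W) le_rfl (Z.presheaf.map (homOfLE h).op y) = 0 := by
  rw [← CommRingCat.comp_apply, Scheme.Hom.map_appLE, Scheme.Hom.appLE, CommRingCat.comp_apply, hy, map_zero]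

section Tilde

variable (R : Type u) [CommRing R]

set_option backward.isDefEq.respectTransparency false in
/-- `R / J` as an `R`-module in two ways. -/
noncomputable def resIso (J : Ideal R) : (ModuleCat.restrictScalars.{u} (Ideal.Quotient.mk J)).obj
    (ModuleCat.of (R ⧸ J) (R ⧸ J)) ≅ ModuleCat.of R (R ⧸ J) where
  inv := ModuleCat.ofHom (X := (R ⧸ J))
    (Y := ((ModuleCat.restrictScalars (Ideal.Quotient.mk J)).obj (ModuleCat.of (R ⧸ J) (R ⧸ J))))
    { toFun := fun x => x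
      map_add' := fun _ _ => rfl
      map_smul' := fun a x => by
        obtain ⟨x, rfl⟩ := Ideal.Quotient.mk_surjective x
        rfl }
  hom := ModuleCat.ofHom (Y := (R ⧸ J))
    (X := ((ModuleCat.restrictScalars (Ideal.Quotient.mk J)).obj (ModuleCat.of (R ⧸ J) (R ⧸ J))))
    { toFun := fun x => x
      map_add' := fun _ _ => rfl
      map_smul' := fun a x => by
        obtain ⟨x, rfl⟩ := Ideal.Quotient.mk_surjective x
        rfl }

/-- The structure sheaf of `V(J)` is `(R / J)~`. -/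
noncomputable def quotIso (J : Ideal R) :
    (pushforward (Spec.map (CommRingCat.ofHom (Ideal.Quotient.mk J)))).obj
      (Coh.structureModule (Spec (CommRingCat.of (R ⧸ J)))) ≅
    (tilde.functor (CommRingCat.of R)).obj (ModuleCat.of R (R ⧸ J)) :=
  (pushforward (Spec.map (CommRingCat.ofHom (Ideal.Quotient.mk J)))).mapIso
      (AlgebraicGeometry.tildeSelf (R := CommRingCat.of (R ⧸ J))).symm ≪≫
    (Groth.Agent.PerfC.TildePush.tildePushIso (CommRingCat.ofHom (Ideal.Quotient.mk J))).app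
      (ModuleCat.of (R ⧸ J) (R ⧸ J)) ≪≫
    (tilde.functor (CommRingCat.of R)).mapIso (resIso R J)

variable {R} {Z : Scheme.{u}} (p : Z ⟶ Spec (CommRingCat.of R))

/-- `p^*(R / J)~` is the structure sheaf of the inverse image of `V(J)`. -/
theorem nonempty_iso (J : Ideal R) {T : Scheme.{u}} {i : T ⟶ Z} {t : T ⟶ Spec (CommRingCat.of (R ⧸ J))}
    (h : IsPullback i t p (Spec.map (CommRingCat.ofHom (Ideal.Quotient.mk J)))) :
    Nonempty ((tilde.functor (CommRingCat.of R) ⋙ Scheme.Modules.pullback p).obj (ModuleCat.of R (R ⧸ J)) ≅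
      (pushforward i).obj (Coh.structureModule T)) := by
  have hq : (Coh.structureModule (Spec (CommRingCat.of (R ⧸ J)))).IsQuasicoherent := CurvesC.UnitCoh.isQCoh_unit _
  obtain ⟨e⟩ := CohqA.AffineBaseChange.nonempty_iso h.flip (Coh.structureModule _)
  exact ⟨(Scheme.Modules.pullback p).mapIso (quotIso R J).symm ≪≫ e ≪≫
    (pushforward i).mapIso (Fga.UnitRestrict.pullbackUnitIso t)⟩

theorem additive_tilde (R : CommRingCat.{u}) : (tilde.functor R).Additive := inferInstance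

/-- Homomorphisms from `q^* I` to `p^*(R / m ^ n)~` vanish. -/
theorem hom_eq_zero [IsNoetherianRing R] (m : Ideal R) [m.IsMaximal] [Flat p] (F : Z.Modules)
    {Z₀ : Scheme.{u}} {i₀ : Z₀ ⟶ Z} {p₀ : Z₀ ⟶ Spec (CommRingCat.of (R ⧸ m))}
    (h₀ : IsPullback i₀ p₀ p (Spec.map (CommRingCat.ofHom (Ideal.Quotient.mk m))))
    (hw : ∀ w : (Scheme.Modules.pullback i₀).obj F ⟶ Coh.structureModule Z₀, w = 0) (n : ℕ)
    {T : Scheme.{u}} {i : T ⟶ Z} {t : T ⟶ Spec (CommRingCat.of (R ⧸ m ^ n))}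
    (h : IsPullback i t p (Spec.map (CommRingCat.ofHom (Ideal.Quotient.mk (m ^ n)))))
    (w : (Scheme.Modules.pullback i).obj F ⟶ Coh.structureModule T) : w = 0 := by
  have h1 := (hom_push_iff i₀ F _).mp hw
  obtain ⟨e₀⟩ := nonempty_iso p m h₀
  obtain ⟨e⟩ := nonempty_iso p (m ^ n) h
  have : PreservesFiniteLimits (tilde.functor (CommRingCat.of R)) := PerfB.TildeExact.preservesFiniteLimits_tilde _
  have : (tilde.functor (CommRingCat.of R)).Additive := additive_tilde (CommRingCat.of R)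
  have h2 : ∀ v : F ⟶ (tilde.functor (CommRingCat.of R) ⋙ Scheme.Modules.pullback p).obj (ModuleCat.of R (R ⧸ m)),
      v = 0 := hom_congr (Iso.refl F) e₀.symm h1
  have h3 := HomVan.hom_quot_pow_eq_zero (tilde.functor (CommRingCat.of R) ⋙ Scheme.Modules.pullback p) F m
    (IsNoetherian.noetherian m) h2 n
  exact (hom_push_iff i F _).mpr (hom_congr (Iso.refl F) e h3) w

end Tilde

section Alg

/-- The kernel of the base change of a surjection. -/
theorem mem_map_of_isPushout {A B C D : CommRingCat.{u}} {α : A ⟶ B} {β : A ⟶ C} {γ : B ⟶ D} {δ : C ⟶ D}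
    (h : IsPushout α β γ δ) (hβ : Function.Surjective β.hom) {x : B} (hx : γ.hom x = 0) :
    x ∈ (RingHom.ker β.hom).map α.hom := by
  let K := RingHom.ker β.hom
  let e : A ⧸ K ≃+* C := RingHom.quotientKerEquivOfSurjective hβ
  let q₁ : B ⟶ CommRingCat.of (B ⧸ K.map α.hom) := CommRingCat.ofHom (Ideal.Quotient.mk _)
  let q₂ : C ⟶ CommRingCat.of (B ⧸ K.map α.hom) :=
    CommRingCat.ofHom ((Ideal.quotientMap (K.map α.hom) α.hom Ideal.le_comap_map).comp e.symm.toRingHom)
  have w : α ≫ q₁ = β ≫ q₂ := by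
    ext a
    have h1 : e.symm (β.hom a) = Ideal.Quotient.mk K a := by
      rw [RingEquiv.symm_apply_eq]
      rfl
    change Ideal.Quotient.mk _ (α.hom a) = Ideal.quotientMap (K.map α.hom) α.hom Ideal.le_comap_map (e.symm (β.hom a))
    rw [h1, Ideal.quotientMap_mk]
  have h2 : γ ≫ h.desc q₁ q₂ w = q₁ := h.inl_desc q₁ q₂ w
  have h3 : q₁.hom x = 0 := by
    rw [← h2]
    change (h.desc q₁ q₂ w).hom (γ.hom x) = 0
    rw [hx, map_zero]
  exact Ideal.Quotient.eq_zero_iff_mem.mp h3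

/-- The map on global sections of `Spec (R / J) ⟶ Spec R`. -/
theorem mk_eq_zero {R : Type u} [CommRing R] (J : Ideal R) {a : Γ(Spec (CommRingCat.of R), ⊤)}
    (ha : (Spec.map (CommRingCat.ofHom (Ideal.Quotient.mk J))).appLE ⊤
      ((Spec.map (CommRingCat.ofHom (Ideal.Quotient.mk J))) ⁻¹ᵁ ⊤) le_rfl a = 0) :
    (Scheme.ΓSpecIso (CommRingCat.of R)).hom a ∈ J := by
  rw [Scheme.Hom.appLE_eq_app] at ha
  have h1 := congr($(Scheme.ΓSpecIso_naturality (CommRingCat.ofHom (Ideal.Quotient.mk J))) a)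
  rw [CommRingCat.comp_apply, CommRingCat.comp_apply] at h1
  rw [← Ideal.Quotient.eq_zero_iff_mem]
  refine Eq.trans h1.symm ?_
  have h2 : (Spec.map (CommRingCat.ofHom (Ideal.Quotient.mk J))).appTop a = 0 := ha
  rw [h2, map_zero]

theorem surj_appLE {R : Type u} [CommRing R] (J : Ideal R) : Function.Surjective
    ((Spec.map (CommRingCat.ofHom (Ideal.Quotient.mk J))).appLE ⊤
      ((Spec.map (CommRingCat.ofHom (Ideal.Quotient.mk J))) ⁻¹ᵁ ⊤) le_rfl).hom := by
  have : IsClosedImmersion (Spec.map (CommRingCat.ofHom (Ideal.Quotient.mk J))) :=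
    IsClosedImmersion.spec_of_surjective _ Ideal.Quotient.mk_surjective
  rw [Scheme.Hom.appLE_eq_app]
  exact (Spec.map (CommRingCat.ofHom (Ideal.Quotient.mk J))).app_surjective ⊤ (isAffineOpen_top _)

end Alg

section Krull

variable {R : Type u} [CommRing R] [IsNoetherianRing R] (m : Ideal R) [m.IsMaximal] {Z X : Scheme.{u}}
  [IsLocallyNoetherian Z] (p : Z ⟶ Spec (CommRingCat.of R)) [Flat p] (q : Z ⟶ X) (I : X.IdealSheafData)
  {Z₀ : Scheme.{u}} {i₀ : Z₀ ⟶ Z} {p₀ : Z₀ ⟶ Spec (CommRingCat.of (R ⧸ m))}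
  (h₀ : IsPullback i₀ p₀ p (Spec.map (CommRingCat.ofHom (Ideal.Quotient.mk m))))
  (hw : ∀ w : (Scheme.Modules.pullback (i₀ ≫ q)).obj (ClSub.idealMod I) ⟶ Coh.structureModule Z₀, w = 0)

include h₀ hw in
/-- Sections of the ideal vanish on the infinitesimal neighbourhoods of the fibre. -/
theorem app_eq_zero (n : ℕ) (V : X.affineOpens) {a : Γ(X, V.1)} (ha : a ∈ I.ideal V)
    {T : Scheme.{u}} {i : T ⟶ Z} {t : T ⟶ Spec (CommRingCat.of (R ⧸ m ^ n))}
    (h : IsPullback i t p (Spec.map (CommRingCat.ofHom (Ideal.Quotient.mk (m ^ n))))) :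
    i.app (q ⁻¹ᵁ V.1) (q.app V.1 a) = 0 := by
  have h1 : ∀ w : (Scheme.Modules.pullback i₀).obj ((Scheme.Modules.pullback q).obj (ClSub.idealMod I)) ⟶
      Coh.structureModule Z₀, w = 0 :=
    hom_congr ((Scheme.Modules.pullbackComp i₀ q).app (ClSub.idealMod I)).symm (Iso.refl _) hw
  have h2 := hom_eq_zero p m ((Scheme.Modules.pullback q).obj (ClSub.idealMod I)) h₀ h1 n h
  have h3 : ∀ w : (Scheme.Modules.pullback (i ≫ q)).obj (ClSub.idealMod I) ⟶ Coh.structureModule T, w = 0 :=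
    hom_congr ((Scheme.Modules.pullbackComp i q).app (ClSub.idealMod I)) (Iso.refl _) h2
  have h4 := app_eq_zero_of_hom (i ≫ q) I h3 V ha
  rw [Scheme.Hom.comp_app] at h4
  exact h4

omit [IsNoetherianRing R] [m.IsMaximal] [IsLocallyNoetherian Z] [Flat p] in
/-- The image of the maximal ideal in the local ring. -/
theorem map_mem_maximalIdeal (z : Z) (hz : (p z).asIdeal = m) (W : Z.Opens) (hzW : z ∈ W) (e : W ≤ p ⁻¹ᵁ ⊤)
    {r : R} (hr : r ∈ m) :
    Z.presheaf.germ W z hzW (p.appLE ⊤ W e ((Scheme.ΓSpecIso (CommRingCat.of R)).inv r)) ∈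
      IsLocalRing.maximalIdeal (Z.presheaf.stalk z) := by
  rw [IsLocalRing.mem_maximalIdeal, mem_nonunits_iff]
  intro hu
  have h1 : z ∈ Z.basicOpen (p.appLE ⊤ W e ((Scheme.ΓSpecIso (CommRingCat.of R)).inv r)) :=
    (Z.mem_basicOpen _ z hzW).mpr hu
  rw [Scheme.basicOpen_appLE] at h1
  have h3 : p z ∈ (Spec (CommRingCat.of R)).basicOpen ((Scheme.ΓSpecIso (CommRingCat.of R)).inv r) := h1.2
  rw [basicOpen_eq_of_affine] at h3
  have h4 : r ∉ (p z).asIdeal := h3
  rw [hz] at h4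
  exact h4 hr

omit [IsNoetherianRing R] [m.IsMaximal] [IsLocallyNoetherian Z] [Flat p] in
theorem map_mem_pow (z : Z) (hz : (p z).asIdeal = m) (W : Z.Opens) (hzW : z ∈ W) (e : W ≤ p ⁻¹ᵁ ⊤)
    (n : ℕ) {r : R} (hr : r ∈ m ^ n) :
    Z.presheaf.germ W z hzW (p.appLE ⊤ W e ((Scheme.ΓSpecIso (CommRingCat.of R)).inv r)) ∈
      IsLocalRing.maximalIdeal (Z.presheaf.stalk z) ^ n := by
  let ρ : R →+* Z.presheaf.stalk z :=
    ((Z.presheaf.germ W z hzW).hom.comp (p.appLE ⊤ W e).hom).comp (Scheme.ΓSpecIso (CommRingCat.of R)).inv.hom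
  have h1 : m.map ρ ≤ IsLocalRing.maximalIdeal (Z.presheaf.stalk z) := by
    rw [Ideal.map_le_iff_le_comap]
    intro x hx
    exact map_mem_maximalIdeal m p z hz W hzW e hx
  have h2 : (m ^ n).map ρ ≤ IsLocalRing.maximalIdeal (Z.presheaf.stalk z) ^ n := by
    rw [Ideal.map_pow]
    exact Ideal.pow_right_mono h1 n
  exact h2 (Ideal.mem_map_of_mem ρ hr)

include h₀ hw in
/-- **Krull**: sections of the ideal vanish in the local rings along the fibre. -/
theorem germ_eq_zero (z : Z) (hz : (p z).asIdeal = m) (V : X.affineOpens) (hzV : z ∈ q ⁻¹ᵁ V.1)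
    {a : Γ(X, V.1)} (ha : a ∈ I.ideal V) : Z.presheaf.germ (q ⁻¹ᵁ V.1) z hzV (q.app V.1 a) = 0 := by
  obtain ⟨W, hW, hzW, hWV⟩ := exists_isAffineOpen_mem_and_subset (x := z) (U := q ⁻¹ᵁ V.1) hzV
  let x : Γ(Z, W) := Z.presheaf.map (homOfLE hWV).op (q.app V.1 a)
  have hx : Z.presheaf.germ (q ⁻¹ᵁ V.1) z hzV (q.app V.1 a) = Z.presheaf.germ W z hzW x :=
    (Z.presheaf.germ_res_apply (homOfLE hWV) z hzW _).symm
  rw [hx]
  have h1 : ∀ n : ℕ, Z.presheaf.germ W z hzW x ∈ IsLocalRing.maximalIdeal (Z.presheaf.stalk z) ^ n := by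
    intro n
    have h := IsPullback.of_hasPullback p (Spec.map (CommRingCat.ofHom (Ideal.Quotient.mk (m ^ n))))
    have h2 := app_eq_zero m p q I h₀ hw n V ha h
    have he : W ≤ p ⁻¹ᵁ ⊤ := le_top
    have h3 := CohqA.AffineBaseChange.isPushout_appLE h.flip (isAffineOpen_top _) hW he
    have h4 := mem_map_of_isPushout h3 (x := x) ?_ ?_
    · have h5 := Ideal.mem_map_of_mem (Z.presheaf.germ W z hzW).hom h4
      refine (?_ : Ideal.map _ _ ≤ _) h5
      rw [Ideal.map_map, Ideal.map_le_iff_le_comap]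
      intro b hb
      have h6 := mk_eq_zero (m ^ n) hb
      have h7 := map_mem_pow m p z hz W hzW he n h6
      have h9 : (Scheme.ΓSpecIso (CommRingCat.of R)).inv ((Scheme.ΓSpecIso (CommRingCat.of R)).hom b) = b :=
        congr($((Scheme.ΓSpecIso (CommRingCat.of R)).hom_inv_id) b)
      rw [h9] at h7
      exact h7
    · exact surj_appLE _
    · exact appLE_res_eq_zero _ hWV _ h2
  have h5 : Z.presheaf.germ W z hzW x ∈ (⨅ n : ℕ, IsLocalRing.maximalIdeal (Z.presheaf.stalk z) ^ n) :=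
    Ideal.mem_iInf.mpr h1
  rw [Ideal.iInf_pow_eq_bot_of_isLocalRing _ (IsLocalRing.maximalIdeal.isMaximal _).ne_top] at h5
  exact h5

end Krull

end K981.KrullVan
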