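import Groth.Agent.Krr.H463.DualLam
import Groth.Agent.TautSh.K994.PullHom
import Groth.Agent.CurvesB.HZero
import Groth.Agent.CurvSt.K903.ConormalFree
import Groth.Agent.Omega.K935.SmoothImm
import Groth.Agent.NonPure.K981.KrullVan

/-!
# Homomorphisms from the conormal sheaf and sections of the normal sheaf
-/

set_option autoImplicit false
universe u

open CategoryTheory CategoryTheory.Limits AlgebraicGeometry TopologicalSpace Opposite
open Groth.Agent

namespace K981.NegHom

theorem rank_structure (Y : Scheme.{u}) : FlatMod.IsFinLocFreeOfRank 1 (Coh.structureModule Y) :=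
  Krr.H463.DualLam.isFinLocFreeOfRank_iff.mpr fun _ => ⟨⊤, trivial, _, Krr.H463.HomTensor.isLocBasis_one' Y ⊤⟩

/-- If the normal sheaf restricted to `F` has no sections then there are no homomorphisms from the restricted
conormal sheaf to the structure sheaf. -/
theorem hom_eq_zero {Y F : Scheme.{u}} {C : Y.Modules} (hC : FlatMod.IsFinLocFree C) [DCoh.HasSheafHom C]
    (f : F ⟶ Y) (h : Subsingleton (Coh.HH F ((Scheme.Modules.pullback f).obj
      ((DCoh.sheafHom C).obj (Coh.structureModule Y))) 0))
    (w : (Scheme.Modules.pullback f).obj C ⟶ Coh.structureModule F) : w = 0 := by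
  obtain ⟨e⟩ := K994.PullHom.nonempty_iso f hC (rank_structure Y)
  let e₁ : (Scheme.Modules.pullback f).obj ((DCoh.sheafHom C).obj (Coh.structureModule Y)) ≅
      CohqB.HomSheaf.homSheaf ((Scheme.Modules.pullback f).obj C)
        ((Scheme.Modules.pullback f).obj (Coh.structureModule Y)) :=
    (Scheme.Modules.pullback f).mapIso (Krr.H463.DualLam.dualIso C) ≪≫ e
  have h1 : Subsingleton Γ((Scheme.Modules.pullback f).obj
      ((DCoh.sheafHom C).obj (Coh.structureModule Y)), ⊤) := (CurvesB.HZero.equivAdd _).symm.injective.subsingleton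
  have h2 : Subsingleton Γ(CohqB.HomSheaf.homSheaf ((Scheme.Modules.pullback f).obj C)
        ((Scheme.Modules.pullback f).obj (Coh.structureModule Y)), ⊤) := by
    refine ⟨fun a b => ?_⟩
    have h4 : ∀ s, e₁.hom.app ⊤ (e₁.inv.app ⊤ s) = s :=
      fun s => congr(Scheme.Modules.Hom.app $(e₁.inv_hom_id) ⊤ s)
    rw [← h4 a, ← h4 b, Subsingleton.elim (e₁.inv.app ⊤ a) (e₁.inv.app ⊤ b)]
  have h3 : Subsingleton ((Scheme.Modules.pullback f).obj C ⟶
      (Scheme.Modules.pullback f).obj (Coh.structureModule Y)) :=
    (CohqB.HomSheaf.topEquiv _ _).symm.injective.subsingleton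
  exact KrullVan.hom_congr (Iso.refl _) (Fga.UnitRestrict.pullbackUnitIso f) (fun v => Subsingleton.elim _ _) w

/-- The conormal sheaf of a closed immersion of smooth schemes is locally free. -/
theorem isFinLocFree_conormal {X Y S : Scheme.{u}} (i : Y ⟶ X) [IsClosedImmersion i] (g : X ⟶ S) [Smooth g]
    [Smooth (i ≫ g)] : FlatMod.IsFinLocFree (Omega.conormal i) :=
  K903.ConormalFree.isFinLocFree_conormal i (K935.SmoothImm.isRegularClosedImmersion i g)

end K981.NegHom
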