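import Groth.Agent.NonPure.K981.FibreStep
import Groth.Agent.FlatB.PushPair
import Groth.Agent.CurvSt.K740.HilbLN
import Groth.Agent.Fga.HilbFun

/-!
# The classifying morphism is an open immersion
-/

set_option autoImplicit false
universe u

open CategoryTheory CategoryTheory.Limits AlgebraicGeometry TopologicalSpace Opposite
open Groth.Agent

namespace K981.OpenImm

open K981.FibreStep Groth.Agent.Picfga.HilbPull

/-- Two morphisms to the Hilbert scheme with the same family agree. -/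
theorem eq_of_family {X S : Scheme.{u}} {g : X ⟶ S} {H : Over S} {Zu : FGA.HilbSet g H}
    (hH : FGA.HilbRepresentedBy g H Zu) {T W : Scheme.{u}} [IsLocallyNoetherian T] {α β : T ⟶ H.left}
    {k₁ k₂ : W ⟶ Zu.1.subscheme} {s : W ⟶ T} [Surjective s]
    (h₁ : IsPullback k₁ s (Zu.1.subschemeι ≫ PicF.XTproj g H) α)
    (h₂ : IsPullback k₂ s (Zu.1.subschemeι ≫ PicF.XTproj g H) β)
    (hk : k₁ ≫ Zu.1.subschemeι ≫ pullback.fst g H.hom = k₂ ≫ Zu.1.subschemeι ≫ pullback.fst g H.hom) : α = β := by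
  obtain ⟨hp1, hp2⟩ := Zu.2
  have : Flat s := MorphismProperty.of_isPullback h₁ hp2
  have : IsProper s := MorphismProperty.of_isPullback h₁ hp1
  have : Epi s := Flat.epi_of_flat_of_surjective _
  have w : ∀ {α : T ⟶ H.left} {k : W ⟶ Zu.1.subscheme}
      (_ : IsPullback k s (Zu.1.subschemeι ≫ PicF.XTproj g H) α),
      s ≫ α ≫ H.hom = (k ≫ Zu.1.subschemeι ≫ pullback.fst g H.hom) ≫ g := by
    intro α k h
    rw [← Category.assoc, ← h.w, Category.assoc, Category.assoc, Category.assoc, Category.assoc, pullback.condition]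
  have hαβ : α ≫ H.hom = β ≫ H.hom := by
    rw [← cancel_epi s, w h₁, w h₂, hk]
  let T' : Over S := Over.mk (α ≫ H.hom)
  let α' : T' ⟶ H := Over.homMk α rfl
  let β' : T' ⟶ H := Over.homMk β hαβ.symm
  let c : W ⟶ PicF.XT g T' := pullback.lift (k₁ ≫ Zu.1.subschemeι ≫ pullback.fst g H.hom) s (w h₁).symm
  have hcs : c ≫ PicF.XTproj g T' = s := pullback.lift_snd _ _ _
  have key : ∀ (γ : T' ⟶ H) (k : W ⟶ Zu.1.subscheme)
      (_ : IsPullback k s (Zu.1.subschemeι ≫ PicF.XTproj g H) γ.left)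
      (_ : k₁ ≫ Zu.1.subschemeι ≫ pullback.fst g H.hom = k ≫ Zu.1.subschemeι ≫ pullback.fst g H.hom),
      k ≫ Zu.1.subschemeι = c ≫ PicF.XTmap g γ := by
    intro γ k hk' hk''
    apply pullback.hom_ext
    · rw [Category.assoc, Category.assoc, FGA.XTmap_fst, pullback.lift_fst, hk'']
    · have h3 : PicF.XTmap g γ ≫ pullback.snd g H.hom = PicF.XTproj g T' ≫ γ.left := pullback.lift_snd _ _ _
      rw [Category.assoc, Category.assoc, h3, ← Category.assoc c, hcs]
      exact hk'.w
  have hα := key α' k₁ h₁ rfl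
  have hβ := key β' k₂ h₂ hk
  have hc : IsClosedImmersion c := by
    have h3 : IsPullback k₁ c Zu.1.subschemeι (PicF.XTmap g α') :=
      IsPullback.of_bot (by rw [hcs]; exact h₁) hα (isPullback_XTmap g α')
    exact MorphismProperty.of_isPullback h3 inferInstance
  have e1 : FGA.hilbPull g α' Zu.1 = c.ker :=
    (K740.Hilb.hilbPull_eq_iff g α' Zu.1 c).mpr ⟨k₁, by rw [hcs]; exact h₁, hα⟩
  have e2 : FGA.hilbPull g β' Zu.1 = c.ker :=
    (K740.Hilb.hilbPull_eq_iff g β' Zu.1 c).mpr ⟨k₂, by rw [hcs]; exact h₂, hβ⟩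
  have hTn : IsLocallyNoetherian T'.left := ‹IsLocallyNoetherian T›
  obtain ⟨γ, -, hγ⟩ := hH.2 T' ⟨FGA.hilbPull g α' Zu.1, Fga.HilbFun.hilbPull_mem g α' Zu.2⟩
  have h3 : α' = β' := (hγ α' rfl).trans (hγ β' (e2.trans e1.symm)).symm
  exact congrArg (fun t : T' ⟶ H => t.left) h3

/-- An open neighbourhood of `φ b` over which `φ` is an isomorphism. -/
theorem isIso_snd {X S : Scheme.{u}} {g : X ⟶ S} {H : Over S} {Zu : FGA.HilbSet g H}
    (hH : FGA.HilbRepresentedBy g H Zu) {Y B V W : Scheme.{u}} {i : Y ⟶ X} [Mono i] {π : Y ⟶ B} [Surjective π]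
    [Flat π] {φ : B ⟶ H.left} {v : Y ⟶ Zu.1.subscheme}
    (hv : IsPullback v π (Zu.1.subschemeι ≫ PicF.XTproj g H) φ)
    (hvq : v ≫ Zu.1.subschemeι ≫ pullback.fst g H.hom = i)
    {j : V ⟶ H.left} [IsOpenImmersion j] {a : V ⟶ B} {k : W ⟶ Zu.1.subscheme} {s : W ⟶ V} {y : W ⟶ Y}
    (sq : IsPullback k s (Zu.1.subschemeι ≫ PicF.XTproj g H) j) (hy : IsPullback y s π a)
    (hyi : y ≫ i = k ≫ Zu.1.subschemeι ≫ pullback.fst g H.hom) : IsIso (pullback.snd φ j) := by
  have hHn := hH.1
  have hVn : IsLocallyNoetherian V := LocallyOfFiniteType.isLocallyNoetherian j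
  have hs : Surjective s := MorphismProperty.of_isPullback hy inferInstance
  have hja : j = a ≫ φ := eq_of_family hH sq (hy.paste_horiz hv) (by rw [Category.assoc, hvq, hyi])
  have hsnd : pullback.snd φ j ≫ a = pullback.fst φ j := by
    have hw : IsPullback (pullback.fst π (pullback.fst φ j)) (pullback.snd π (pullback.fst φ j)) π
      (pullback.fst φ j) := IsPullback.of_hasPullback _ _
    have h1 := hw.paste_horiz hv
    have hu : (pullback.fst π (pullback.fst φ j) ≫ v) ≫ (Zu.1.subschemeι ≫ PicF.XTproj g H) =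
        (pullback.snd π (pullback.fst φ j) ≫ pullback.snd φ j) ≫ j := by
      rw [h1.w, Category.assoc, pullback.condition]
    let u : pullback π (pullback.fst φ j) ⟶ W := sq.lift _ _ hu
    have hu1 : u ≫ k = pullback.fst π (pullback.fst φ j) ≫ v := sq.lift_fst _ _ _
    have hu2 : u ≫ s = pullback.snd π (pullback.fst φ j) ≫ pullback.snd φ j := sq.lift_snd _ _ _
    have huy : u ≫ y = pullback.fst π (pullback.fst φ j) := by
      rw [← cancel_mono i, Category.assoc, hyi, ← Category.assoc, hu1, Category.assoc, hvq]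
    have : Epi (pullback.snd π (pullback.fst φ j)) := Flat.epi_of_flat_of_surjective _
    rw [← cancel_epi (pullback.snd π (pullback.fst φ j)), ← Category.assoc, ← hu2, Category.assoc, ← hy.w,
      ← Category.assoc, huy, hw.w]
  refine ⟨pullback.lift a (𝟙 _) (by rw [Category.id_comp, ← hja]), ?_, ?_⟩
  · apply pullback.hom_ext
    · rw [Category.assoc, pullback.lift_fst, hsnd, Category.id_comp]
    · rw [Category.assoc, pullback.lift_snd, Category.id_comp, Category.comp_id]
  · rw [pullback.lift_snd]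

/-- **The classifying morphism is an open immersion.** -/
theorem isOpenImmersion {X S : Scheme.{u}} [IsLocallyNoetherian X] {g : X ⟶ S} {H : Over S} {Zu : FGA.HilbSet g H}
    (hH : FGA.HilbRepresentedBy g H Zu) {Y B : Scheme.{u}} {i : Y ⟶ X} [IsClosedImmersion i] {π : Y ⟶ B}
    [Surjective π] [Flat π] [IsProper π] {φ : B ⟶ H.left} {v : Y ⟶ Zu.1.subscheme}
    (hv : IsPullback v π (Zu.1.subschemeι ≫ PicF.XTproj g H) φ)
    (hvq : v ≫ Zu.1.subschemeι ≫ pullback.fst g H.hom = i)
    (hb : ∀ b : B, Function.Bijective (π.fiberToSpecResidueField b).appTop)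
    (hvan : ∀ (b : B) (w : (Scheme.Modules.pullback (π.fiberι b)).obj (Omega.conormal i) ⟶
      Coh.structureModule (π.fiber b)), w = 0) : IsOpenImmersion φ := by
  have hHn := hH.1
  obtain ⟨hp1, hp2⟩ := Zu.2
  refine Groth.Agent.FlatB.PushPair.isOpenImmersion_of_forall φ fun b => ?_
  obtain ⟨D⟩ := exists_dat (p := Zu.1.subschemeι ≫ PicF.XTproj g H) hv
    (Zu.1.subschemeι ≫ pullback.fst g H.hom) i hvq b (hb b) (hvan b)
  obtain ⟨V, W, j, hj, a, k, s, y, hmem, sq, hy, hyi⟩ := exists_square hv hvq D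
  have hiso := isIso_snd hH hv hvq sq hy hyi
  refine ⟨pullback φ j, pullback.fst φ j, inferInstance, j.opensRange, hmem, ?_, ?_⟩
  · exact (Scheme.Hom.opensRange_pullbackFst ..).symm
  · rw [pullback.condition]
    infer_instance

end K981.OpenImm
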