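import Groth.Agent.NonPure.K981.SnapTwo
import Groth.Prelude.Def_PicGrp

/-!
# Hilbert polynomials of invertible modules when the Picard group is infinite cyclic
-/

set_option autoImplicit false
universe u
open CategoryTheory CategoryTheory.Limits AlgebraicGeometry Polynomial

namespace K981.PicZ

open Groth.Agent Groth.Agent.Fga.PicMon

variable {Y : Scheme.{u}} [PicGrp.Law Y] (e : PicLoc.PicSet Y ≃* Multiplicative ℤ)

/-- The integer attached to an invertible module. -/
noncomputable def z {M : Y.Modules} (hM : PicF.IsInvertible M) : ℤ :=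
  Multiplicative.toAdd (e (PicGrp.cls M hM))

theorem nonempty_iso {M N : Y.Modules} (hM : PicF.IsInvertible M) (hN : PicF.IsInvertible N)
    (h : z e hM = z e hN) : Nonempty (M ≅ N) := by
  rw [← PicGrp.cls_eq_cls_iff hM hN]
  exact e.injective (Multiplicative.toAdd.injective h)

theorem z_one {M : Y.Modules} (hM : PicF.IsInvertible M) (i : M ≅ Coh.structureModule Y) :
    z e hM = 0 := by
  have h : PicGrp.cls M hM = 1 := (PicGrp.cls_eq_one_iff hM).2 ⟨i⟩
  unfold z
  rw [h, map_one, toAdd_one]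

theorem z_tensorPow {M : Y.Modules} (hM : PicF.IsInvertible M) (n : ℕ)
    (hn : PicF.IsInvertible (CohB1.tensorPow M n)) : z e hn = n * z e hM := by
  have h : PicGrp.cls (CohB1.tensorPow M n) hn = PicGrp.cls M hM ^ n :=
    Subtype.ext (PicGrp.cls_pow_val hM n).symm
  unfold z
  rw [h, map_pow, toAdd_pow, nsmul_eq_mul]

theorem mc_rel {L M : Y.Modules} (hL : PicF.IsInvertible L) (hM : PicF.IsInvertible M) {A B₁ B₂ : ℕ}
    (h : (A : ℤ) * z e hM + B₁ * z e hL = B₂ * z e hL) : mc M ^ A * mc L ^ B₁ = mc L ^ B₂ := by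
  have h1 : PicGrp.cls M hM ^ A * PicGrp.cls L hL ^ B₁ = PicGrp.cls L hL ^ B₂ := by
    apply e.injective
    apply Multiplicative.toAdd.injective
    rw [map_mul, map_pow, map_pow, map_pow, toAdd_mul, toAdd_pow, toAdd_pow, toAdd_pow, nsmul_eq_mul,
      nsmul_eq_mul, nsmul_eq_mul]
    exact h
  have h2 := congrArg Subtype.val h1
  rw [PicGrp.mul_val, PicGrp.cls_pow_val, PicGrp.cls_pow_val, PicGrp.cls_pow_val, PicGrp.mulCl_cl] at h2
  have h3 : mc (CohB1.tensorMod (CohB1.tensorPow M A) (CohB1.tensorPow L B₁)) = mc (CohB1.tensorPow L B₂) := h2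
  rw [mc_tensor, mc_tensorPow, mc_tensorPow, mc_tensorPow] at h3
  exact h3

theorem exists_rel (a b : ℤ) (ha : a ≠ 0) : ∃ A B₁ B₂ : ℕ, 0 < A ∧ (A : ℤ) * b + B₁ * a = B₂ * a ∧
    ((B₂ : ℚ) - B₁) / A = (b : ℚ) / a := by
  rcases lt_or_gt_of_ne ha with h | h
  · obtain ⟨A, rfl⟩ : ∃ A : ℕ, a = -(A : ℤ) := ⟨a.natAbs, by omega⟩
    have hA : 0 < A := by omega
    have hA' : (A : ℚ) ≠ 0 := by exact_mod_cast hA.ne'
    rcases le_total 0 b with hb | hb
    · obtain ⟨B, rfl⟩ := Int.eq_ofNat_of_zero_le hb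
      refine ⟨A, B, 0, hA, by push_cast; ring, ?_⟩
      push_cast
      field_simp
      ring
    · obtain ⟨B, rfl⟩ : ∃ B : ℕ, b = -(B : ℤ) := ⟨b.natAbs, by omega⟩
      refine ⟨A, 0, B, hA, by push_cast; ring, ?_⟩
      push_cast
      field_simp
      ring
  · obtain ⟨A, rfl⟩ := Int.eq_ofNat_of_zero_le h.le
    have hA : 0 < A := by omega
    have hA' : (A : ℚ) ≠ 0 := by exact_mod_cast hA.ne'
    rcases le_total 0 b with hb | hb
    · obtain ⟨B, rfl⟩ := Int.eq_ofNat_of_zero_le hb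
      refine ⟨A, 0, B, hA, by push_cast; ring, ?_⟩
      push_cast
      field_simp
      ring
    · obtain ⟨B, rfl⟩ : ∃ B : ℕ, b = -(B : ℤ) := ⟨b.natAbs, by omega⟩
      refine ⟨A, B, 0, hA, by push_cast; ring, ?_⟩
      push_cast
      field_simp
      ring

theorem hilb_comp (K : Type u) [Field K] [Y.Over (Spec (CommRingCat.of K))]
    [IsProper (Y ↘ Spec (CommRingCat.of K))] {L M : Y.Modules} (hL : PicF.IsInvertible L)
    (hM : PicF.IsInvertible M) (ha : z e hL ≠ 0) {P Q : ℚ[X]}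
    (hP : ShStab.IsHilbPoly K Y L (Coh.structureModule Y) P) (hQ : ShStab.IsHilbPoly K Y L M Q) :
    Q = P.comp (Polynomial.X + C ((z e hM : ℚ) / (z e hL : ℚ))) := by
  obtain ⟨A, B₁, B₂, hA, h1, h2⟩ := exists_rel (z e hL) (z e hM) ha
  rw [← h2]
  exact SnapTwo.hilb_of_rel K hL hM hA (mc_rel e hL hM h1) hP hQ

/-- A twisting module with nonconstant Hilbert polynomial is nontrivial. -/
theorem z_ne_zero (K : Type u) [Field K] [Y.Over (Spec (CommRingCat.of K))]
    [IsProper (Y ↘ Spec (CommRingCat.of K))] {L : Y.Modules} (hL : PicF.IsInvertible L) {P : ℚ[X]}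
    (hP : ShStab.IsHilbPoly K Y L (Coh.structureModule Y) P) (hd : P.natDegree ≠ 0) : z e hL ≠ 0 := by
  intro h0
  have hO : PicF.IsInvertible (Coh.structureModule Y) := Fdesc.LocGen.isInvertible_structureModule
  obtain ⟨i⟩ := nonempty_iso e hL hO (by rw [h0, z_one e hO (Iso.refl _)])
  apply hd
  have h1 : P = C (Curv2.euler K Y (Coh.structureModule Y) : ℚ) := by
    apply K847.HilbBasic.hilbPoly_unique K hP
    intro m
    rw [eval_C]
    obtain ⟨j⟩ : Nonempty (ShStab.twist Y L (Coh.structureModule Y) m ≅ Coh.structureModule Y) := by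
      rw [← mc_eq_iff]
      unfold ShStab.twist
      rw [mc_tensor, mc_tensorPow, mc_eq i, mc_one, one_pow, one_mul]
    rw [K847.HilbBasic.euler_congr K j]
  rw [h1, natDegree_C]

end K981.PicZ
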