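import Groth.Agent.NonPure.K981.ZeroDim
import Groth.Agent.Fga.TensorList
import Mathlib.AlgebraicGeometry.AlgClosed.Basic

/-!
# Powers of an invertible ideal; the ideal of a rational point
-/

set_option autoImplicit false
universe u
open CategoryTheory CategoryTheory.Limits AlgebraicGeometry

namespace K981.PowMono

open Groth.Agent

variable {Y : Scheme.{u}}

/-- tensoring with an invertible module preserves monomorphisms -/
theorem mono_tensor {I A B : Y.Modules} (hI : PicF.IsInvertible I) (f : A ⟶ B) [Mono f] :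
    Mono ((DCoh.tensorBi.obj I).map f) :=
  (Fga.TwistCoh.shortExact_tensorBi hI (Dix.TwistClosed490.seq f)
    (Dix.TwistClosed490.seq_shortExact f)).mono_f

/-- The powers of an invertible ideal embed in the structure sheaf. -/
theorem exists_mono_tensorPow {I : Y.Modules} (hI : PicF.IsInvertible I)
    (i : I ⟶ Coh.structureModule Y) [Mono i] (n : ℕ) :
    ∃ t : CohB1.tensorPow I n ⟶ Coh.structureModule Y, Mono t := by
  induction n with
  | zero => exact ⟨𝟙 _, inferInstanceAs (Mono (𝟙 (Coh.structureModule Y)))⟩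
  | succ n ih =>
    obtain ⟨t, ht⟩ := ih
    have h1 := mono_tensor hI t
    refine ⟨(Fga.TensorList.tensorComm (CohB1.tensorPow I n) I).hom ≫ (DCoh.tensorBi.obj I).map t ≫
      (Fga.TensorList.tensorUnit I).hom ≫ i, ?_⟩
    have h2 : Mono ((Fga.TensorList.tensorUnit I).hom ≫ i) := mono_comp _ _
    have h3 := @mono_comp _ _ _ _ _ ((DCoh.tensorBi.obj I).map t) h1
      ((Fga.TensorList.tensorUnit I).hom ≫ i) h2
    exact @mono_comp _ _ _ _ _ (Fga.TensorList.tensorComm (CohB1.tensorPow I n) I).hom inferInstance _ h3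

section Point

variable (K : Type u) [Field K] [IsAlgClosed K] [Y.Over (Spec (CommRingCat.of K))]
  [IsProper (Y ↘ Spec (CommRingCat.of K))]

/-- The ideal of a rational point. -/
theorem exists_point [Nonempty Y] : ∃ D : Y.IdealSheafData,
    Mor2.IsFinLocFreeOfDeg 1 (D.subschemeι ≫ (Y ↘ Spec (CommRingCat.of K))) := by
  have hc : CompactSpace Y := (quasiCompact_iff_compactSpace (Y ↘ Spec (CommRingCat.of K))).1 inferInstance
  obtain ⟨y, -, hy⟩ := IsClosed.exists_closed_singleton (isClosed_univ (X := Y)) Set.univ_nonempty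
  let s : Spec (CommRingCat.of K) ⟶ Y := pointOfClosedPoint (Y ↘ Spec (CommRingCat.of K)) y hy
  have hs : s ≫ (Y ↘ Spec (CommRingCat.of K)) = 𝟙 _ := pointOfClosedPoint_comp _ y hy
  have hcl : IsClosedImmersion s := by
    have : IsClosedImmersion (s ≫ (Y ↘ Spec (CommRingCat.of K))) := by rw [hs]; infer_instance
    exact IsClosedImmersion.of_comp _ (Y ↘ Spec (CommRingCat.of K))
  refine ⟨s.ker, ?_⟩
  have h1 : s.ker.subschemeι ≫ (Y ↘ Spec (CommRingCat.of K)) = inv s.toImage := by
    rw [← cancel_epi s.toImage, IsIso.hom_inv_id, ← hs]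
    have h2 : s.toImage ≫ s.ker.subschemeι = s := s.toImage_imageι
    rw [← Category.assoc, h2]
  rw [h1]
  refine ⟨⟨inferInstance, inferInstance, inferInstance⟩, fun y => ?_⟩
  rw [Scheme.Hom.finrank_eq_one_of_isIso]
  rfl

end Point

end K981.PowMono
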