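import Groth.Agent.NonPure.K981.PowMono
import Groth.Agent.NonPure.K981.PicZ
import Groth.Agent.NonPure.K981.Codim
import Groth.Agent.S0020

/-!
# Rank one torsion-free modules with Hilbert polynomial `P_{O_Y} - ℓ`, when `Pic(Y) ≅ ℤ`
-/

set_option autoImplicit false
universe u
open CategoryTheory CategoryTheory.Limits AlgebraicGeometry Polynomial

namespace K981.Thm53

open Groth.Agent

variable {Y : Scheme.{u}}

theorem isClosed_support {F : Y.Modules} (hF : Coh.IsCoh F) : IsClosed (CohB1.support F) :=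
  S0020.result Y F hF.2

theorem support_of_isInvertible {L : Y.Modules} (hL : PicF.IsInvertible L) :
    CohB1.support L = Set.univ := by
  refine Set.eq_univ_of_forall fun x => ?_
  by_contra h
  rw [CohqB.DevSupport.not_mem_support_iff] at h
  obtain ⟨t, ht⟩ := CycB.ModStalk.exists_isGen hL x
  have h1 : Subsingleton (Y.presheaf.stalk x) := ht.1.subsingleton
  exact one_ne_zero (Subsingleton.elim (1 : Y.presheaf.stalk x) 0)

theorem support_unit : CohB1.support (Coh.structureModule Y) = Set.univ :=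
  support_of_isInvertible Fdesc.LocGen.isInvertible_structureModule

theorem isCoh_of_isInvertible {M : Y.Modules} (hM : PicF.IsInvertible M) : Coh.IsCoh M :=
  PerfA.CohSerre.isCoh_of_isFinLocFree (fun x => by
    obtain ⟨U, hx, h⟩ := (Ega2.QCohLocal.isFinLocFreeOfRank_one_iff.2 hM) x
    exact ⟨U, 1, hx, h⟩)

variable (K : Type u) [Field K] [Y.Over (Spec (CommRingCat.of K))] [IsProper (Y ↘ Spec (CommRingCat.of K))]

section Hull

variable [IsIntegral Y] 

/-- On a regular scheme of dimension at most one torsion-free modules of rank one are invertible. -/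
theorem exists_iso_of_dim_le_one [IsLocallyNoetherian Y] (hreg : ∀ x : Y, IsRegularLocalRing (Y.presheaf.stalk x))
    {n : ℕ} (hn : topologicalKrullDim Y = n) (hn2 : n < 2) {F : Y.Modules}
    (hF : Coh.IsCoh F) (htf : TorSh.IsTorsionFree F) (hr : K848.Hull.rk F = 1) :
    ∃ (M : Y.Modules) (_ : PicF.IsInvertible M), Nonempty (F ≅ M) := by
  obtain ⟨M, hM, φ, U, hφ, hU, hbij, hsupp⟩ := K848.Hull.exists_hull hreg hF htf hr
  have hMc : Coh.IsCoh M := isCoh_of_isInvertible hM
  have hT : Coh.IsCoh (cokernel φ) := Sga67.CohBasic.isCoh_cokernel _ hF.1 hMc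
  have h1 := (Codim.dim_le (c := 2) hn.le (CohB1.support (cokernel φ)) (isClosed_support hT) hsupp).2
  have h2 : CohB1.support (cokernel φ) = ∅ := by
    by_contra h
    have := h1 (Set.nonempty_iff_ne_empty.2 h)
    omega
  have h3 : IsZero (cokernel φ) := CohqB.DevSupport.isZero_of_support_eq_empty h2
  have h4 : Epi φ := Preadditive.epi_of_isZero_cokernel _ h3
  have h5 : IsIso φ := isIso_of_mono_of_epi φ
  exact ⟨M, hM, ⟨asIso φ⟩⟩

end Hull

theorem exists_mono [IsAlgClosed K] [IsIntegral Y] [Smooth (Y ↘ Spec (CommRingCat.of K))]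
    {L : Y.Modules} (hLi : PicF.IsInvertible L) (hLa : CohB1.IsAmple L)
    [PicGrp.Law Y] (e : PicLoc.PicSet Y ≃* Multiplicative ℤ)
    {ℓ : ℕ} (hℓ : 0 < ℓ) {G : Y.Modules} (hGc : Coh.IsCoh G) (hGt : TorSh.IsTorsionFree G)
    (hGr : K848.Hull.rk G = 1) {P : ℚ[X]}
    (hP : ShStab.IsHilbPoly K Y L (Coh.structureModule Y) P)
    (hG : ShStab.IsHilbPoly K Y L G (P - C (ℓ : ℚ))) :
    ∃ t : G ⟶ Coh.structureModule Y, Mono t := by
  have hloc : IsLocallyNoetherian Y := IdealEndK.isLocallyNoetherian (Y ↘ Spec (CommRingCat.of K))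
  have hreg := IdealEndK.isRegularLocalRing_stalk (Y ↘ Spec (CommRingCat.of K))
  have hO : Coh.IsCoh (Coh.structureModule Y) := Fdesc.StructMod.isCoh_structureModule _
  have hsO : topologicalKrullDim (CohB1.support (Coh.structureModule Y)) = topologicalKrullDim Y := by
    rw [support_unit]
    exact (Homeomorph.Set.univ Y).isHomeomorph.topologicalKrullDim_eq
  have hO0 : ¬ IsZero (Coh.structureModule Y) := by
    intro h
    have h1 := CohqB.DevSupport.support_eq_empty_of_isZero h
    rw [support_unit] at h1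
    exact Set.univ_nonempty.ne_empty h1
  obtain ⟨n, hn'⟩ := K847.HilbBasic.exists_dim_support_eq K hO0
  have hn : topologicalKrullDim Y = n := hsO.symm.trans hn'
  have hPdeg := K847.HilbBasic.natDegree_eq K hLa hO hn' hP
  have hPc := K847.HilbBasic.coeff_pos K hLa hO hn' hP
  rcases lt_or_ge n 2 with hn2 | hn2
  · obtain ⟨M, hM, ⟨i⟩⟩ := exists_iso_of_dim_le_one hreg hn hn2 hGc hGt hGr
    have hMP := K847.HilbBasic.isHilbPoly_iso K i hG
    rcases Nat.eq_zero_or_pos n with h0 | h0
    · -- dimension zero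
      exfalso
      subst h0
      have hN : IsNoetherian Y := Fga.SnapperTwist.isNoetherian_of_proper K Y
      have hs0 : topologicalKrullDim (CohB1.support (Coh.structureModule Y)) ≤ 0 := hn'.le
      have hsM : topologicalKrullDim (CohB1.support M) ≤ 0 :=
        (K847.HilbBasic.dim_support_le M).trans hn.le
      have hMc : Coh.IsCoh M := isCoh_of_isInvertible hM
      have h1 := HilbSub.hilb_of_support K Y hLi hO hs0
      have h2 := HilbSub.hilb_of_support K Y hLi hMc hsM
      have h3 := VarietyA.EulerFinite.euler_tensor_of_support K Y (Coh.structureModule Y) hO hs0 1 M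
        (Ega2.QCohLocal.isFinLocFreeOfRank_one_iff.2 hM) M (Fga.TensorList.tensorUnit M).symm
      rw [Nat.cast_one, one_mul] at h3
      rw [h3, ← K847.HilbBasic.hilbPoly_unique K hP h1] at h2
      have h4 := K847.HilbBasic.hilbPoly_unique K h2 hMP
      have h5 : C (ℓ : ℚ) = 0 := by linear_combination h4
      rw [C_eq_zero, Nat.cast_eq_zero] at h5
      omega
    · -- dimension one
      obtain rfl : n = 1 := by omega
      have ha : PicZ.z e hLi ≠ 0 := PicZ.z_ne_zero e K hLi hP (by omega)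
      have haq : ((PicZ.z e hLi : ℤ) : ℚ) ≠ 0 := by exact_mod_cast ha
      obtain ⟨D, hD⟩ := PowMono.exists_point (Y := Y) K
      have hDf : IsFinite (D.subschemeι ≫ (Y ↘ Spec (CommRingCat.of K))) := hD.1.1
      have hD0 : D ≠ ⊥ := by
        rintro rfl
        have h1 := IdealHilb.dim_support_quotMod K (⊥ : Y.IdealSheafData)
          ((⊥ : Y.IdealSheafData).subschemeι ≫ (Y ↘ Spec (CommRingCat.of K)))
        rw [ZeroDim.support_quotMod, Scheme.IdealSheafData.support_bot] at h1
        have h2 : topologicalKrullDim (((⊤ : TopologicalSpace.Closeds Y) : Set Y) : Set Y) = topologicalKrullDim Y :=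
          (Homeomorph.Set.univ Y).isHomeomorph.topologicalKrullDim_eq
        rw [h2, hn] at h1
        exact absurd h1 (by decide)
      obtain ⟨M', hM', ⟨j⟩⟩ := exists_iso_of_dim_le_one hreg hn hn2
        (VarietyB.DegCartier.isCoh_idealMod D) (IdealRestr.isTorsionFree_idealMod D)
        (IdealRestr.finrank_idealMod hD0)
      obtain ⟨P', hP', hD'⟩ := IdealHilb.hilb_idealMod K Y hLi D hD
      obtain rfl := K847.HilbBasic.hilbPoly_unique K hP hP'
      have h1 := PicZ.hilb_comp e K hLi hM ha hP hMP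
      have h2 := PicZ.hilb_comp e K hLi hM' ha hP (K847.HilbBasic.isHilbPoly_iso K j hD')
      have h3 := K847.HilbBasic.coeff_comp_sub (r := 0) hPdeg.le
        ((PicZ.z e hM : ℚ) / (PicZ.z e hLi : ℚ))
      have h4 := K847.HilbBasic.coeff_comp_sub (r := 0) hPdeg.le
        ((PicZ.z e hM' : ℚ) / (PicZ.z e hLi : ℚ))
      rw [← h1] at h3
      rw [← h2] at h4
      rw [sub_sub_cancel_left, coeff_neg, coeff_C_zero] at h3 h4
      have h5 : (PicZ.z e hM : ℚ) = ℓ * PicZ.z e hM' := by
        have hPc' : P.coeff (0 + 1) ≠ 0 := hPc.ne'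
        field_simp at h3 h4
        have h6 : ((0 : ℚ) + 1) ≠ 0 := by norm_num
        apply mul_right_cancel₀ hPc'
        push_cast at h3 h4
        linear_combination (-1 : ℚ) * h3 + (ℓ : ℚ) * h4
      have h6 : PicZ.z e hM = PicZ.z e (Fdesc.LocGen.isInvertible_tensorPow hM' ℓ) := by
        rw [PicZ.z_tensorPow e hM']
        exact_mod_cast h5
      obtain ⟨i'⟩ := PicZ.nonempty_iso e hM (Fdesc.LocGen.isInvertible_tensorPow hM' ℓ) h6
      have hm : Mono (j.inv ≫ ClSub.idealModι D) := mono_comp _ _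
      obtain ⟨t, ht⟩ := PowMono.exists_mono_tensorPow hM' (j.inv ≫ ClSub.idealModι D) ℓ
      exact ⟨(i ≪≫ i').hom ≫ t, mono_comp _ _⟩
  · obtain ⟨M, hM, φ, U, hφ, hU, hbij, hsupp⟩ := K848.Hull.exists_hull hreg hGc hGt hGr
    have hMc : Coh.IsCoh M := isCoh_of_isInvertible hM
    have hT : Coh.IsCoh (cokernel φ) := Sga67.CohBasic.isCoh_cokernel _ hGc.1 hMc
    have h1 := (Codim.dim_le (c := 2) hn.le (CohB1.support (cokernel φ)) (isClosed_support hT) hsupp).1
    obtain ⟨Q, hQ⟩ := K847.HilbBasic.exists_hilbPoly K hLi hT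
    obtain ⟨R, hR⟩ := K847.HilbBasic.exists_hilbPoly K hLi hMc
    have h2 := K847.HilbBasic.natDegree_le K hLi hT h1 hQ
    have h3 := K847.HilbBasic.hilbPoly_add K hLi (Dix.TwistClosed490.seq φ)
      (Dix.TwistClosed490.seq_shortExact φ) hGc hMc hT hG hR hQ
    have ha : PicZ.z e hLi ≠ 0 := PicZ.z_ne_zero e K hLi hP (by omega)
    have haq : ((PicZ.z e hLi : ℤ) : ℚ) ≠ 0 := by exact_mod_cast ha
    have h4 := PicZ.hilb_comp e K hLi hM ha hP hR
    obtain ⟨r, rfl⟩ : ∃ r, n = r + 1 := ⟨n - 1, by omega⟩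
    have h5 := K847.HilbBasic.coeff_comp_sub (r := r) hPdeg.le
      ((PicZ.z e hM : ℚ) / (PicZ.z e hLi : ℚ))
    rw [← h4, h3, coeff_sub, coeff_add, coeff_sub, coeff_C_ne_zero (by omega),
      coeff_eq_zero_of_natDegree_lt (p := Q) (by omega)] at h5
    have h6 : PicZ.z e hM = 0 := by
      have h7 : ((r : ℚ) + 1) * ((PicZ.z e hM : ℚ) / (PicZ.z e hLi : ℚ)) * P.coeff (r + 1) = 0 := by
        rw [← h5]; ring
      have h8 : ((r : ℚ) + 1) ≠ 0 := by positivity
      have h9 : (PicZ.z e hM : ℚ) / (PicZ.z e hLi : ℚ) = 0 := by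
        rcases mul_eq_zero.1 h7 with h | h
        · rcases mul_eq_zero.1 h with h | h
          · exact absurd h h8
          · exact h
        · exact absurd h hPc.ne'
      rw [div_eq_zero_iff] at h9
      rcases h9 with h | h
      · exact_mod_cast h
      · exact absurd h haq
    obtain ⟨i'⟩ := PicZ.nonempty_iso e hM Fdesc.LocGen.isInvertible_structureModule
      (h6.trans (PicZ.z_one e _ (Iso.refl _)).symm)
    exact ⟨φ ≫ i'.hom, mono_comp _ _⟩

end K981.Thm53
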