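import Groth.Agent.NonPure.K981.Bidual
import Groth.Agent.NonPure.K981.Codim
import Groth.Agent.NonPure.K981.Thm53
import Groth.Agent.Surf.K464.Base
import Groth.Agent.VarietyB.ProjForm
import Groth.Agent.S1684
import Groth.Agent.CycB.C1Pull

/-!
# Maps from the ideal of a curve to a torsion-free sheaf on another curve
-/

set_option autoImplicit false
universe u
open CategoryTheory CategoryTheory.Limits AlgebraicGeometry

namespace K981.Thm55

open Groth.Agent

section Dim

variable {X : Scheme.{u}} [IsIntegral X]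

theorem one_le_of_ne_generic {x : X} (hx : x ≠ genericPoint X) :
    (1 : WithBot ℕ∞) ≤ ringKrullDim (X.presheaf.stalk x) := by
  rw [ringKrullDim_stalk_eq_coheight]
  have h1 : Order.coheight x ≠ 0 := by
    rw [Ne, Order.coheight_eq_zero]
    intro hmax
    have h2 : x ≤ genericPoint X := genericPoint_specializes x
    have h3 : genericPoint X ≤ x := hmax h2
    exact hx (Specializes.antisymm (show x ⤳ genericPoint X from h3) h2).eq
  have h4 : (1 : ℕ∞) ≤ Order.coheight x := Order.one_le_iff_ne_zero.2 h1
  exact_mod_cast h4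

/-- A closed subset not containing the generic point of an integral scheme of dimension `n`. -/
theorem dim_le_of_not_mem {n : ℕ} (hn : topologicalKrullDim X ≤ n) (S : Set X) (hS : IsClosed S)
    (h : genericPoint X ∉ S) : topologicalKrullDim S ≤ ((n - 1 : ℕ) : WithBot ℕ∞) :=
  (Codim.dim_le (c := 1) hn S hS fun x hx => by
    have := one_le_of_ne_generic (x := x) (fun h' => h (h' ▸ hx))
    exact_mod_cast this).1

end Dim

section Curve

variable (K : Type u) [Field K] {Y : Scheme.{u}} [Y.Over (Spec (CommRingCat.of K))]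
  [IsProper (Y ↘ Spec (CommRingCat.of K))]

theorem euler_nonneg_of_support {Q : Y.Modules} (hQ : Coh.IsCoh Q)
    (hs : topologicalKrullDim (CohB1.support Q) ≤ 0) : 0 ≤ Curv2.euler K Y Q := by
  have hN : IsNoetherian Y := Fga.SnapperTwist.isNoetherian_of_proper K Y
  rw [VarietyA.EulerFinite.euler_eq_of_vanish K Y Q (fun i hi => S0047.result Y Q hQ (fun x hx =>
    VarietyA.GlobGen.isClosed_singleton_of_mem_support Q hQ.2 hs hx) i hi)]
  positivity

omit [IsProper (Y ↘ Spec (CommRingCat.of K))] in
/-- The Euler characteristic is the value of the Hilbert polynomial at zero. -/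
theorem euler_eq_eval_zero {L F : Y.Modules} {P : Polynomial ℚ} (hP : ShStab.IsHilbPoly K Y L F P) :
    (Curv2.euler K Y F : ℚ) = P.eval 0 := by
  have h1 := hP 0
  obtain ⟨i⟩ : Nonempty (ShStab.twist Y L F 0 ≅ F) := by
    rw [← Fga.PicMon.mc_eq_iff]
    unfold ShStab.twist
    rw [Fga.PicMon.mc_tensor, Fga.PicMon.mc_tensorPow, pow_zero, mul_one]
  rw [K847.HilbBasic.euler_congr K i, Nat.cast_zero] at h1
  exact h1

/-- A nonzero map between torsion-free coherent modules of rank one on an integral curve. -/
theorem euler_le [IsIntegral Y] (hdim : topologicalKrullDim Y = 1) {F G : Y.Modules} (hF : Coh.IsCoh F)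
    (htF : TorSh.IsTorsionFree F) (hrF : K848.Hull.rk F = 1) (hG : Coh.IsCoh G) (htG : TorSh.IsTorsionFree G)
    (hrG : K848.Hull.rk G = 1) (φ : F ⟶ G) (hφ : φ ≠ 0) :
    Curv2.euler K Y F ≤ Curv2.euler K Y G := by
  have hN : IsLocallyNoetherian Y := IdealEndK.isLocallyNoetherian (Y ↘ Spec (CommRingCat.of K))
  have hm : Mono φ := Bidual.mono_of_rank_one hF.1 htF hG.1 htG hrF φ hφ
  have hQ : Coh.IsCoh (cokernel φ) := Sga67.CohBasic.isCoh_cokernel _ hF.1 hG
  have h1 := S1524.result K Y (Dix.TwistClosed490.seq φ) (Dix.TwistClosed490.seq_shortExact φ) hF hG hQ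
  have h2 : genericPoint Y ∉ CohB1.support (cokernel φ) := by
    rw [K848.Hartogs.not_mem_support_cokernel_iff]
    let k : Type u := Y.functionField
    let i1 : Module k (F.presheaf.stalk (genericPoint Y)) :=
      inferInstanceAs (Module (Y.presheaf.stalk (genericPoint Y)) (F.presheaf.stalk (genericPoint Y)))
    let i2 : Module k (G.presheaf.stalk (genericPoint Y)) :=
      inferInstanceAs (Module (Y.presheaf.stalk (genericPoint Y)) (G.presheaf.stalk (genericPoint Y)))
    have hf1 : Module.Finite k (F.presheaf.stalk (genericPoint Y)) :=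
      CycB.CohStalk.finite_stalk F hF (genericPoint Y)
    have hf2 : Module.Finite k (G.presheaf.stalk (genericPoint Y)) :=
      CycB.CohStalk.finite_stalk G hG (genericPoint Y)
    let f : (F.presheaf.stalk (genericPoint Y)) →ₗ[k] (G.presheaf.stalk (genericPoint Y)) :=
      CycB.StalkExact.stalkLin φ (genericPoint Y)
    have hinj : Function.Injective f := CycB.StalkExact.stalkLin_injective φ _
    exact (LinearMap.injective_iff_surjective_of_finrank_eq_finrank (hrF.trans hrG.symm)).1 hinj
  have h3 := dim_le_of_not_mem (n := 1) (by rw [hdim]; rfl) _ (Thm53.isClosed_support hQ) h2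
  have h4 := euler_nonneg_of_support K hQ h3
  have h5 : Curv2.euler K Y G = Curv2.euler K Y F + Curv2.euler K Y (cokernel φ) := h1
  omega

end Curve

section Surface

variable (K : Type u) [Field K] {X : Scheme.{u}} [X.Over (Spec (CommRingCat.of K))]
  [IsProper (X ↘ Spec (CommRingCat.of K))]

/-- Integral curves on a regular surface are Cartier. -/
theorem isEffCartier [IsIntegral X] [Smooth (X ↘ Spec (CommRingCat.of K))]
    (hdim : topologicalKrullDim X = 2) (C : X.IdealSheafData) [IsIntegral C.subscheme]
    (hC : topologicalKrullDim ↥C.subscheme = 1) : BlowUp.IsEffCartierIdeal C := by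
  have hloc := IdealEndK.isLocallyNoetherian (X ↘ Spec (CommRingCat.of K))
  refine S1684.result X C ?_ fun x _ => ?_
  · let ξ : X := C.subschemeι (genericPoint ↥C.subscheme)
    have h1 : closure ({ξ} : Set X) = Set.range C.subschemeι := by
      have h2 : closure ({genericPoint ↥C.subscheme} : Set C.subscheme) = Set.univ := genericPoint_closure _
      have h3 := C.subschemeι.isClosedEmbedding.closure_image_eq ({genericPoint ↥C.subscheme} : Set C.subscheme)
      rw [Set.image_singleton, h2, Set.image_univ] at h3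
      exact h3
    have h2 : topologicalKrullDim (closure ({ξ} : Set X)) = 1 := by
      rw [h1, ← hC]
      exact (C.subschemeι.isClosedEmbedding.isEmbedding.toHomeomorph).isHomeomorph.topologicalKrullDim_eq.symm
    have h3 : ((Order.height ξ : ℕ∞) : WithBot ℕ∞) = 1 := by
      rw [← h2, K876.Dim.krullDim_closure]
    have h4 := Codim.height_add_ringKrullDim_le ξ
    rw [h3, hdim] at h4
    have h5 : ξ ≠ genericPoint X := by
      intro h
      rw [h, genericPoint_closure] at h2
      have h6 : topologicalKrullDim (Set.univ : Set X) = topologicalKrullDim X :=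
        (Homeomorph.Set.univ X).isHomeomorph.topologicalKrullDim_eq
      rw [h6, hdim] at h2
      exact absurd h2 (by decide)
    have h6 := one_le_of_ne_generic h5
    change ringKrullDim (X.presheaf.stalk ξ) = 1
    generalize ringKrullDim (X.presheaf.stalk ξ) = r at h4 h6
    induction r with
    | bot => exact absurd h6 (by simp)
    | coe r =>
      induction r with
      | top =>
        have h7 : ((1 + (⊤ : ℕ∞) : ℕ∞) : WithBot ℕ∞) ≤ ((2 : ℕ∞) : WithBot ℕ∞) := h4
        rw [WithBot.coe_le_coe] at h7
        simp at h7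
      | coe r =>
        have h7 : ((1 + r : ℕ) : WithBot ℕ∞) ≤ ((2 : ℕ) : WithBot ℕ∞) := by
          refine le_trans (le_of_eq ?_) h4
          push_cast
          rfl
        have h7 : 1 + r ≤ 2 := by exact_mod_cast h7
        have h8 : 1 ≤ r := by exact_mod_cast h6
        have h9 : r = 1 := by omega
        rw [h9]
        rfl
  · have := IdealEndK.ufd_stalk (X ↘ Spec (CommRingCat.of K)) x
    exact ⟨inferInstance, this⟩

/-- `χ(C₂, G) < χ(C₂, i^* I₁)` forces maps to vanish. -/
theorem main [IsIntegral X] [Smooth (X ↘ Spec (CommRingCat.of K))]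
    (hdim : topologicalKrullDim X = 2) (C₁ C₂ : X.IdealSheafData) [IsIntegral C₁.subscheme]
    [IsIntegral C₂.subscheme] (hC₁ : topologicalKrullDim ↥C₁.subscheme = 1)
    (hC₂ : topologicalKrullDim ↥C₂.subscheme = 1) (ℓ : ℕ)
    (hℓ : FGA.intNum K X 2 ![ClSub.idealMod C₁, ClSub.idealMod C₂] (Coh.structureModule X) < (ℓ : ℤ))
    [C₂.subscheme.Over (Spec (CommRingCat.of K))]
    (hover : C₂.subschemeι ≫ (X ↘ Spec (CommRingCat.of K)) = C₂.subscheme ↘ Spec (CommRingCat.of K))
    (G : C₂.subscheme.Modules) (hGc : Coh.IsCoh G) (hGt : TorSh.IsTorsionFree G)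
    (hGr : K848.Hull.rk G = 1)
    (hGP : Curv2.euler K C₂.subscheme G = Curv2.euler K C₂.subscheme (Coh.structureModule C₂.subscheme) - ℓ)
    (φ : ClSub.idealMod C₁ ⟶ (Scheme.Modules.pushforward C₂.subschemeι).obj G) : φ = 0 := by
  have hdim' : topologicalKrullDim X ≤ (2 : ℕ) := hdim.le
  have hloc := IdealEndK.isLocallyNoetherian (X ↘ Spec (CommRingCat.of K))
  have hprop : IsProper (C₂.subscheme ↘ Spec (CommRingCat.of K)) := by
    rw [← hover]; infer_instance
  have hlocY := IdealEndK.isLocallyNoetherian (C₂.subscheme ↘ Spec (CommRingCat.of K))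
  have hI₁ : PicF.IsInvertible (ClSub.idealMod C₁) :=
    Dix.IdealModCartier.isInvertible_idealMod (isEffCartier K hdim C₁ hC₁)
  let N := (Scheme.Modules.pullback C₂.subschemeι).obj (ClSub.idealMod C₁)
  have hN : PicF.IsInvertible N := CycB.C1Pull.isInvertible_pullback C₂.subschemeι hI₁
  -- the intersection number
  have e1 : FGA.intNum K X 2 ![ClSub.idealMod C₁, ClSub.idealMod C₂] (Coh.structureModule X) =
      FGA.intNum K X 2 ![ClSub.idealMod C₂, ClSub.idealMod C₁] (Coh.structureModule X) := by
    rw [K464.Base.intNum_two K X hdim', K464.Base.intNum_two K X hdim',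
      K464.Base.euler_congr K X (Fga.TensorList.tensorComm (ClSub.idealMod C₁) (ClSub.idealMod C₂))]
    ring
  rw [e1, K464.Base.intNum_idealMod K X hdim' C₂ hI₁] at hℓ
  have e2 : Curv2.euler K X (ClSub.quotMod C₂) =
      Curv2.euler K C₂.subscheme (Coh.structureModule C₂.subscheme) :=
    VarietyB.HHPush.euler_push C₂.subschemeι K hover _ (Fdesc.StructMod.isQCoh_structureModule _)
  have e3 : Curv2.euler K X (CohB1.tensorMod (ClSub.quotMod C₂) (ClSub.idealMod C₁)) =
      Curv2.euler K C₂.subscheme N := by
    have i1 : CohB1.tensorMod (ClSub.quotMod C₂) (ClSub.idealMod C₁) ≅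
        (Scheme.Modules.pushforward C₂.subschemeι).obj N :=
      Fga.TensorList.tensorComm _ _ ≪≫ VarietyB.ProjForm.projIsoUnit C₂.subschemeι
        (VarietyB.ExactLoc.hasBasis_of_isFinLocFreeOfRank
          (Ega2.QCohLocal.isFinLocFreeOfRank_one_iff.mpr hI₁))
    rw [K464.Base.euler_congr K X i1]
    exact VarietyB.HHPush.euler_push C₂.subschemeι K hover _ (Thm53.isCoh_of_isInvertible hN).1
  rw [e2, e3] at hℓ
  by_contra hφ
  let adj := Scheme.Modules.pullbackPushforwardAdjunction C₂.subschemeι
  let φ' : N ⟶ G := (adj.homEquiv _ _).symm φ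
  have hφ' : φ' ≠ 0 := by
    intro h
    apply hφ
    have h1 : φ = adj.homEquiv _ _ φ' := ((adj.homEquiv _ _).apply_symm_apply φ).symm
    rw [h1, h, Adjunction.homEquiv_unit, Functor.map_zero, comp_zero]
  have h1 := euler_le K hC₂ (Thm53.isCoh_of_isInvertible hN)
    (IdealRestr.isTorsionFree_of_isInvertible hN) (K848.Hull.rk_structureModule_of_isInvertible hN)
    hGc hGt hGr φ' hφ'
  omega

end Surface

end K981.Thm55
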