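import Groth.Agent.FormalB.TrKQuot
import Groth.Agent.FormalB.KQuot
import Groth.Agent.Sga67.ClosedPush
import Groth.Agent.NonPure.K981.Thm55
import Groth.Agent.ShStab.K847.StabBasic

/-!
# Submodules of push-forwards of torsion-free modules along a closed immersion
-/

set_option autoImplicit false
universe u
open CategoryTheory CategoryTheory.Limits AlgebraicGeometry

namespace K981.Push54

open Groth.Agent

variable {X : Scheme.{u}}

/-- Submodules of `i_* G` are push-forwards of submodules. -/
theorem exists_push_sub (I : X.IdealSheafData) {G : I.subscheme.Modules} {T : X.Modules}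
    (g : T ⟶ (Scheme.Modules.pushforward I.subschemeι).obj G) [Mono g] :
    ∃ (A : I.subscheme.Modules) (m : A ⟶ G) (e : T ≅ (Scheme.Modules.pushforward I.subschemeι).obj A),
      Mono m ∧ e.hom ≫ (Scheme.Modules.pushforward I.subschemeι).map m = g ∧ (Coh.IsCoh T → Coh.IsCoh A) := by
  have hk : ClSub.KilledByIdeal I T :=
    FormalB.KQuot.killedByIdeal_of_mono g (FormalB.TrKQuot.killed_pushforward I G)
  have hiso := FormalB.TrKQuot.isIso_kπ I hk
  let adj := Scheme.Modules.pullbackPushforwardAdjunction I.subschemeι
  let A := (Scheme.Modules.pullback I.subschemeι).obj T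
  let m : A ⟶ G := (adj.homEquiv _ _).symm g
  have h1 : adj.unit.app T ≫ (Scheme.Modules.pushforward I.subschemeι).map m = g := by
    have := adj.homEquiv_unit (X := T) (Y := G) (f := m)
    rw [← this]
    exact (adj.homEquiv _ _).apply_symm_apply _
  have hiso' : IsIso (adj.unit.app T) := hiso
  refine ⟨A, m, asIso (adj.unit.app T), ?_, h1, fun hT => FormalB.PullCoh.isCoh_pullback _ hT⟩
  have h2 : Mono ((Scheme.Modules.pushforward I.subschemeι).map m) := by
    have h3 : (Scheme.Modules.pushforward I.subschemeι).map m = inv (adj.unit.app T) ≫ g := by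
      rw [← h1, IsIso.inv_hom_id_assoc]
    rw [h3]
    infer_instance
  have := FormalB.TrKQuot.faithful_pushforward I.subschemeι
  exact (Scheme.Modules.pushforward I.subschemeι).mono_of_mono_map h2

theorem support_eq_univ {Y : Scheme.{u}} [IsIntegral Y] {A : Y.Modules} (hA : Coh.IsCoh A)
    (hAt : TorSh.IsTorsionFree A) (h0 : ¬ IsZero A) : CohB1.support A = Set.univ := by
  have h1 : genericPoint Y ∈ CohB1.support A := by
    by_contra h
    exact h0 (K848.TF.isZero_of_generic hA.1 hAt h)
  have h2 := (Thm53.isClosed_support hA).closure_subset_iff.2 (Set.singleton_subset_iff.2 h1)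
  rw [genericPoint_closure] at h2
  exact Set.univ_subset_iff.1 h2

theorem dim_push (I : X.IdealSheafData) [IsIntegral I.subscheme] {A : I.subscheme.Modules} (hA : Coh.IsCoh A)
    (hAt : TorSh.IsTorsionFree A) (h0 : ¬ IsZero A) :
    topologicalKrullDim (CohB1.support ((Scheme.Modules.pushforward I.subschemeι).obj A)) =
      topologicalKrullDim I.subscheme := by
  rw [Sga67.ClosedPush.support_pushforward, support_eq_univ hA hAt h0, Set.image_univ]
  exact (I.subschemeι.isClosedEmbedding.isEmbedding.toHomeomorph).isHomeomorph.topologicalKrullDim_eq.symm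

theorem isPure_push (I : X.IdealSheafData) [IsIntegral I.subscheme] {G : I.subscheme.Modules}
    (hGt : TorSh.IsTorsionFree G) {d : ℕ} (hd : topologicalKrullDim I.subscheme = d) :
    ShStab.IsPure X ((Scheme.Modules.pushforward I.subschemeι).obj G) d := by
  intro F ι hι hF h0
  obtain ⟨A, m, e, hm, -, hc⟩ := exists_push_sub I ι
  have hAt : TorSh.IsTorsionFree A := K848.TF.isTorsionFree_of_mono m hGt
  have h1 : ¬ IsZero A := fun h => h0 (((Scheme.Modules.pushforward I.subschemeι).map_isZero h).of_iso e)
  rw [K847.StabBasic.dim_support_iso e, dim_push I (hc hF) hAt h1, hd]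

theorem isPure_of_iso {E E' : X.Modules} (e : E ≅ E') {d : ℕ} (h : ShStab.IsPure X E' d) : ShStab.IsPure X E d :=
  fun F ι hι hF h0 => h F (ι ≫ e.hom) inferInstance hF h0

end K981.Push54
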