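import Groth.Agent.ShStab.K847.HilbBasic
import Groth.Agent.Fdesc.StructMod
import Groth.Agent.NonPure.K981.IdealEndK
import Mathlib.Algebra.MvPolynomial.Funext

/-!
# Hilbert polynomials of invertible modules commensurable to the polarisation

If `M^A ⊗ L^{B₁} ≅ L^{B₂}` with `A > 0`, then `P_M(t) = P_O(t + (B₂ - B₁)/A)`.
-/

set_option autoImplicit false
universe u
open CategoryTheory CategoryTheory.Limits AlgebraicGeometry Polynomial

namespace K981.SnapTwo

open Groth.Agent Groth.Agent.Fga.PicMon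

section Alg

/-- The polynomial identity. -/
theorem eq_comp (R : MvPolynomial (Fin 2) ℚ) (P : ℚ[X]) (A B₁ B₂ : ℕ) (hA : 0 < A)
    (h : ∀ t s : ℕ, MvPolynomial.eval (![((t + B₁ * s : ℕ) : ℚ), ((A * s : ℕ) : ℚ)]) R =
      P.eval ((t + B₂ * s : ℕ) : ℚ)) (t : ℚ) :
    MvPolynomial.eval (![t, 1]) R = P.eval (t + ((B₂ : ℚ) - B₁) / A) := by
  let x : MvPolynomial (Fin 2) ℚ := MvPolynomial.X 0
  let y : MvPolynomial (Fin 2) ℚ := MvPolynomial.X 1
  let g : Fin 2 → MvPolynomial (Fin 2) ℚ :=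
    ![x + MvPolynomial.C (B₁ : ℚ) * y, MvPolynomial.C (A : ℚ) * y]
  let U : MvPolynomial (Fin 2) ℚ := MvPolynomial.aeval g R
  let V : MvPolynomial (Fin 2) ℚ := Polynomial.aeval (x + MvPolynomial.C (B₂ : ℚ) * y) P
  have hae : ∀ (v : Fin 2 → ℚ) (p : MvPolynomial (Fin 2) ℚ),
      MvPolynomial.aeval v p = MvPolynomial.eval v p := fun v p =>
    congrArg (fun f : MvPolynomial (Fin 2) ℚ →+* ℚ => f p) (MvPolynomial.coe_aeval_eq_eval v)
  have hU : ∀ v : Fin 2 → ℚ, MvPolynomial.eval v U =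
      MvPolynomial.eval (![v 0 + B₁ * v 1, A * v 1]) R := by
    intro v
    have h1 := MvPolynomial.comp_aeval_apply g (MvPolynomial.aeval (R := ℚ) v) R
    have h2 : (fun i => (MvPolynomial.aeval v) (g i)) = ![v 0 + B₁ * v 1, A * v 1] := by
      funext i
      fin_cases i <;> simp [g, x, y]
    rw [← hae, show MvPolynomial.aeval v U = (MvPolynomial.aeval v) ((MvPolynomial.aeval g) R) from rfl, h1,
      h2, hae]
  have hV : ∀ v : Fin 2 → ℚ, MvPolynomial.eval v V = P.eval (v 0 + B₂ * v 1) := by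
    intro v
    have h1 := Polynomial.aeval_algHom_apply (MvPolynomial.aeval (R := ℚ) v)
      (x + MvPolynomial.C (B₂ : ℚ) * y) P
    have h2 : (MvPolynomial.aeval v) (x + MvPolynomial.C (B₂ : ℚ) * y) = v 0 + B₂ * v 1 := by
      simp [x, y]
    rw [h2] at h1
    rw [← hae, show MvPolynomial.aeval v V =
      (MvPolynomial.aeval v) (Polynomial.aeval (x + MvPolynomial.C (B₂ : ℚ) * y) P) from rfl, ← h1,
      Polynomial.coe_aeval_eq_eval]
  have hUV : U = V := by
    refine MvPolynomial.funext_set (fun _ => Set.range ((↑) : ℕ → ℚ))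
      (fun _ => Set.infinite_range_of_injective Nat.cast_injective) fun v hv => ?_
    obtain ⟨t, ht⟩ := hv 0 trivial
    obtain ⟨s, hs⟩ := hv 1 trivial
    rw [hU, hV, ← ht, ← hs]
    have h1 := h t s
    push_cast at h1
    exact h1
  have hA' : (A : ℚ) ≠ 0 := by exact_mod_cast hA.ne'
  have h1 := hU ![t - B₁ / A, 1 / A]
  have h2 := hV ![t - B₁ / A, 1 / A]
  rw [hUV, h2] at h1
  simp only [Matrix.cons_val_zero, Matrix.cons_val_one] at h1
  have e1 : t - (B₁ : ℚ) / A + B₁ * (1 / A) = t := by field_simp; ring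
  have e2 : (A : ℚ) * (1 / A) = 1 := by field_simp
  have e3 : t - (B₁ : ℚ) / A + B₂ * (1 / A) = t + ((B₂ : ℚ) - B₁) / A := by field_simp; ring
  rw [e1, e2, e3] at h1
  exact h1.symm

end Alg

variable (K : Type u) [Field K] {Y : Scheme.{u}} [Y.Over (Spec (CommRingCat.of K))]
  [IsProper (Y ↘ Spec (CommRingCat.of K))]

/-- **Commensurable line bundles.** -/
theorem hilb_of_rel {L M : Y.Modules} (hL : PicF.IsInvertible L) (hM : PicF.IsInvertible M) {A B₁ B₂ : ℕ}
    (hA : 0 < A) (rel : mc M ^ A * mc L ^ B₁ = mc L ^ B₂) {P Q : ℚ[X]}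
    (hP : ShStab.IsHilbPoly K Y L (Coh.structureModule Y) P) (hQ : ShStab.IsHilbPoly K Y L M Q) :
    Q = P.comp (Polynomial.X + C (((B₂ : ℚ) - B₁) / A)) := by
  have hN : IsLocallyNoetherian Y := IdealEndK.isLocallyNoetherian (Y ↘ Spec (CommRingCat.of K))
  have hO : Coh.IsCoh (Coh.structureModule Y) := Fdesc.StructMod.isCoh_structureModule _
  obtain ⟨d, hd⟩ := K847.HilbBasic.exists_dim_le K Y
  have hs : topologicalKrullDim (CohB1.support (Coh.structureModule Y)) ≤ d :=
    (K847.HilbBasic.dim_support_le _).trans hd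
  obtain ⟨R, -, hR⟩ := S1528.result K Y (Coh.structureModule Y) hO d hs 2 ![L, M] (fun i => by
    fin_cases i
    · exact hL
    · exact hM)
  have hmc : ∀ n : Fin 2 → ℕ, mc (Curv2.tensorPows (Coh.structureModule Y) 2 ![L, M] n) =
      mc L ^ (n 0) * mc M ^ (n 1) := by
    intro n
    change mc (CohB1.tensorMod (CohB1.tensorMod (Coh.structureModule Y) (CohB1.tensorPow L (n 0)))
      (CohB1.tensorPow M (n 1))) = _
    rw [mc_tensor, mc_tensor, mc_tensorPow, mc_tensorPow, mc_one, one_mul]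
  have hev : ∀ (n : Fin 2 → ℕ) (E : Y.Modules), mc L ^ (n 0) * mc M ^ (n 1) = mc E →
      (Curv2.euler K Y E : ℚ) = MvPolynomial.eval (fun i => (n i : ℚ)) R := by
    intro n E hE
    rw [← hR n]
    obtain ⟨e⟩ := (mc_eq_iff _ _).1 ((hmc n).trans hE)
    rw [K847.HilbBasic.euler_congr K e]
  have key := eq_comp R P A B₁ B₂ hA (by
    intro t s
    have h1 := hev ![t + B₁ * s, A * s] (ShStab.twist Y L (Coh.structureModule Y) (t + B₂ * s)) (by
      unfold ShStab.twist
      rw [mc_tensor, mc_tensorPow, mc_one, one_mul]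
      simp only [Matrix.cons_val_zero, Matrix.cons_val_one]
      rw [pow_add, pow_mul, pow_mul, mul_assoc, ← mul_pow, mul_comm (mc L ^ B₁), rel, pow_add, pow_mul])
    rw [← hP, h1]
    congr 2
    funext i
    fin_cases i <;> rfl)
  apply K847.HilbBasic.hilbPoly_unique K hQ
  intro m
  rw [eval_comp, eval_add, eval_X, eval_C, ← key (m : ℚ)]
  have h1 := hev ![m, 1] (ShStab.twist Y L M m) (by
    unfold ShStab.twist
    rw [mc_tensor, mc_tensorPow]
    simp only [Matrix.cons_val_zero, Matrix.cons_val_one]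
    rw [pow_one, mul_comm])
  rw [h1]
  congr 2
  funext i
  fin_cases i
  · rfl
  · simp

end K981.SnapTwo
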