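import Groth.Agent.NonPure.K981.Push54
import Groth.Agent.NonPure.K981.FibHilb
import Groth.Agent.NonPure.K981.IdealRestr
import Groth.Agent.PerfC.RelFlat
import Groth.Agent.KSix.K239.UnitFlat
import Groth.Agent.Fga.UnitRestrict
import Groth.Agent.S1478

/-!
# The flat extension of the torsion of the generic fibre
-/

set_option autoImplicit false
universe u
open CategoryTheory CategoryTheory.Limits AlgebraicGeometry

namespace K981.Thm54

open Groth.Agent

section Base

variable {X S : Scheme.{u}} (f : X ⟶ S)

theorem isPullback_fiber (y : S) :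
    IsPullback (f.fiberι y) (f.fiberToSpecResidueField y) f (S.fromSpecResidueField y) :=
  IsPullback.of_hasPullback _ _

theorem isLocallyNoetherian_fiber [IsProper f] (y : S) : IsLocallyNoetherian (f.fiber y) := by
  have hpr : IsProper (f.fiberToSpecResidueField y) :=
    MorphismProperty.of_isPullback (isPullback_fiber f y) inferInstance
  exact IdealEndK.isLocallyNoetherian (K := S.residueField y) (f.fiberToSpecResidueField y)

theorem shortExact_cokernel {T F : X.Modules} (t : T ⟶ F) [Mono t] :
    (ShortComplex.mk t (cokernel.π t) (cokernel.condition t)).ShortExact where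
  exact := ShortComplex.exact_cokernel t

theorem mono_fiber {T F : X.Modules} (t : T ⟶ F) [Mono t] (h : FlatMod.IsFlatOver f (cokernel t)) (y : S) :
    Mono ((Scheme.Modules.pullback (f.fiberι y)).map t) :=
  PerfC.RelFlat.mono_pullback_map (isPullback_fiber f y) _ (shortExact_cokernel t) h

theorem shortExact_fiber {T F : X.Modules} (t : T ⟶ F) [Mono t] (h : FlatMod.IsFlatOver f (cokernel t)) (y : S) :
    ((ShortComplex.mk t (cokernel.π t) (cokernel.condition t)).map (Scheme.Modules.pullback (f.fiberι y))).ShortExact := by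
  have h0 := ((Functor.preservesFiniteColimits_tfae (Scheme.Modules.pullback (f.fiberι y))).out 3 0).1
      (inferInstance : PreservesFiniteColimits (Scheme.Modules.pullback (f.fiberι y)))
  obtain ⟨h1, h2⟩ := h0 _ (shortExact_cokernel t)
  exact { exact := h1, mono_f := mono_fiber f t h y, epi_g := h2 }

/-- A nonzero torsion module has support of smaller dimension. -/
theorem dim_lt_of_generic {Y : Scheme.{u}} [IsIntegral Y] {n : ℕ} (hn : topologicalKrullDim Y = n)
    {T : Y.Modules} (hT : Coh.IsCoh T) (h : genericPoint Y ∉ CohB1.support T) :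
    topologicalKrullDim (CohB1.support T) ≠ n := by
  intro h'
  have h1 := Codim.dim_le (c := 1) hn.le (CohB1.support T) (Thm53.isClosed_support hT) fun x hx => by
    have := Thm55.one_le_of_ne_generic (x := x) (fun h' => h (h' ▸ hx))
    exact_mod_cast this
  have hne : (CohB1.support T).Nonempty := by
    by_contra h0
    rw [Set.not_nonempty_iff_eq_empty] at h0
    rw [h0] at h'
    have hemp : IsEmpty (TopologicalSpace.IrreducibleCloseds (∅ : Set Y)) :=
      ⟨fun s => s.isIrreducible.nonempty.elim fun x _ => x.2⟩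
    have : topologicalKrullDim (∅ : Set Y) = ⊥ := Order.krullDim_eq_bot
    rw [this] at h'
    exact absurd h' (by simp)
  have h2 := h1.2 hne
  have h3 := h1.1
  rw [h'] at h3
  have h4 : n ≤ n - 1 := by exact_mod_cast h3
  omega

theorem generic_not_mem_of_isTorsion {Y : Scheme.{u}} [IsIntegral Y] {T : Y.Modules}
    (h : Module.IsTorsion (Y.presheaf.stalk (genericPoint Y)) (T.presheaf.stalk (genericPoint Y))) :
    genericPoint Y ∉ CohB1.support T := by
  intro h1
  apply h1
  refine ⟨fun a b => ?_⟩
  have h2 : ∀ a : T.presheaf.stalk (genericPoint Y), a = 0 := by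
    intro a
    obtain ⟨c, hc⟩ := h (x := a)
    let _ : Field (Y.presheaf.stalk (genericPoint Y)) := inferInstanceAs (Field Y.functionField)
    have hc0 : (c : Y.presheaf.stalk (genericPoint Y)) ≠ 0 := nonZeroDivisors.ne_zero c.2
    exact (smul_eq_zero_iff_right hc0).1 hc
  rw [h2 a, h2 b]

end Base

section Main

variable {R : Type u} [CommRing R] [IsDomain R] [IsDiscreteValuationRing R] {X : Scheme.{u}}
  (f : X ⟶ Spec (CommRingCat.of R)) [IsProper f] [Flat f] {L : X.Modules} (hL : CohB1.IsAmple L)
  (hint : ∀ y : ↥(Spec (CommRingCat.of R)), IsIntegral (f.fiber y))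

set_option quotPrecheck false in
local notation "s₀" => (IsLocalRing.closedPoint R : ↥(Spec (CommRingCat.of R)))
set_option quotPrecheck false in
local notation "η₀" => (genericPoint ↥(Spec (CommRingCat.of R)))

theorem not_isZero_of_mem {Y : Scheme.{u}} {T : Y.Modules} {x : Y} (h : x ∈ CohB1.support T) : ¬ IsZero T :=
  fun h0 => h ((S1478.isZero_iff_stalk T).1 h0 x)

include hint in
omit [IsDomain R] [IsDiscreteValuationRing R] [IsProper f] [Flat f] in
theorem support_structure (y : ↥(Spec (CommRingCat.of R))) :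
    topologicalKrullDim (CohB1.support ((Scheme.Modules.pullback (f.fiberι y)).obj (Coh.structureModule X))) =
      topologicalKrullDim (f.fiber y) := by
  have := hint y
  rw [K847.StabBasic.dim_support_iso (Fga.UnitRestrict.pullbackUnitIso (f.fiberι y)), Thm53.support_unit]
  exact (Homeomorph.Set.univ _).isHomeomorph.topologicalKrullDim_eq

include hL hint in
theorem dim_fiber_eq : topologicalKrullDim (f.fiber η₀) = topologicalKrullDim (f.fiber s₀) := by
  have hloc : IsLocallyNoetherian X := LocallyOfFiniteType.isLocallyNoetherian f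
  refine (support_structure f hint _).symm.trans (Eq.trans ?_ (support_structure f hint _))
  refine FibHilb.fiber_dim_eq f hL (Thm53.isCoh_of_isInvertible Fdesc.LocGen.isInvertible_structureModule)
    ((K239.UnitFlat.isFlatOver_unit_iff f).2 inferInstance) ?_
  have := hint η₀
  refine not_isZero_of_mem (x := genericPoint (f.fiber η₀)) ?_
  rw [CohqB.DevSupport.support_congr (Fga.UnitRestrict.pullbackUnitIso (f.fiberι η₀)), Thm53.support_unit]
  trivial

include hL hint in
/-- The special fibre of the flat extension of a torsion module is torsion. -/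
theorem generic_not_mem {T : X.Modules} (hT : Coh.IsCoh T) (hfl : FlatMod.IsFlatOver f T)
    (hη : haveI := hint η₀; genericPoint (f.fiber η₀) ∉ CohB1.support ((Scheme.Modules.pullback (f.fiberι η₀)).obj T)) :
    haveI := hint s₀; genericPoint (f.fiber s₀) ∉ CohB1.support ((Scheme.Modules.pullback (f.fiberι s₀)).obj T) := by
  have hs := hint s₀
  have he := hint η₀
  intro h
  have h0 : ¬ IsZero ((Scheme.Modules.pullback (f.fiberι s₀)).obj T) := not_isZero_of_mem h
  have h0' : ¬ IsZero ((Scheme.Modules.pullback (f.fiberι η₀)).obj T) :=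
    (FibHilb.fiber_isZero_iff f hL hT hfl).not.2 h0
  have hloc : IsLocallyNoetherian X := LocallyOfFiniteType.isLocallyNoetherian f
  have h1 : CohB1.support ((Scheme.Modules.pullback (f.fiberι s₀)).obj T) = Set.univ := by
    have h2 := (Thm53.isClosed_support (FormalB.PullCoh.isCoh_pullback (f.fiberι s₀) hT)).closure_subset_iff.2
      (Set.singleton_subset_iff.2 h)
    rw [genericPoint_closure] at h2
    exact Set.univ_subset_iff.1 h2
  have h2 : topologicalKrullDim (CohB1.support ((Scheme.Modules.pullback (f.fiberι η₀)).obj T)) =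
      topologicalKrullDim (f.fiber η₀) := by
    rw [FibHilb.fiber_dim_eq f hL hT hfl h0', h1, dim_fiber_eq f hL hint]
    exact (Homeomorph.Set.univ _).isHomeomorph.topologicalKrullDim_eq
  let _ : (f.fiber η₀).Over (Spec (CommRingCat.of ((Spec (CommRingCat.of R)).residueField η₀))) :=
    ⟨f.fiberToSpecResidueField η₀⟩
  have hpr : IsProper ((f.fiber η₀) ↘ (Spec (CommRingCat.of ((Spec (CommRingCat.of R)).residueField η₀)))) :=
    MorphismProperty.of_isPullback (isPullback_fiber f η₀) inferInstance
  obtain ⟨d, hd⟩ := K847.HilbBasic.exists_dim_support_eq ((Spec (CommRingCat.of R)).residueField η₀) h0'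
  rw [hd] at h2
  exact dim_lt_of_generic h2.symm (FormalB.PullCoh.isCoh_pullback (f.fiberι η₀) hT) hη hd

include hL in
/-- Purity of the generic fibre follows from purity of the special fibre. -/
theorem isPure_generic {T : X.Modules} (hT : Coh.IsCoh T) (hfl : FlatMod.IsFlatOver f T) {d : ℕ}
    (hp : ShStab.IsPure (f.fiber s₀) ((Scheme.Modules.pullback (f.fiberι s₀)).obj T) d) :
    ShStab.IsPure (f.fiber η₀) ((Scheme.Modules.pullback (f.fiberι η₀)).obj T) d := by
  have hloc : IsLocallyNoetherian X := LocallyOfFiniteType.isLocallyNoetherian f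
  intro N' i hi hN' h0
  obtain ⟨N, n, hn, hN, hNfl, hcfl, ⟨e⟩⟩ := Sat.exists_saturated f η₀
    (congrArg PrimeSpectrum.asIdeal (genericPoint_eq_bot_of_affine (CommRingCat.of R))) hT hfl i hN' (FormalB.PullCoh.isCoh_pullback _ hT)
  have h1 : ¬ IsZero ((Scheme.Modules.pullback (f.fiberι η₀)).obj N) := fun h => h0 (h.of_iso e.symm)
  have h2 : ¬ IsZero ((Scheme.Modules.pullback (f.fiberι s₀)).obj N) :=
    (FibHilb.fiber_isZero_iff f hL hN hNfl).not.1 h1
  rw [← K847.StabBasic.dim_support_iso e, FibHilb.fiber_dim_eq f hL hN hNfl h1]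
  exact hp _ ((Scheme.Modules.pullback (f.fiberι s₀)).map n) (mono_fiber f n hcfl s₀)
    (FormalB.PullCoh.isCoh_pullback _ hN) h2

/-- A nonzero submodule of a torsion-free module of rank one. -/
theorem finrank_sub {Y : Scheme.{u}} [IsIntegral Y] {A G : Y.Modules} (hA : Coh.IsCoh A) (hG : Coh.IsCoh G)
    (hAt : TorSh.IsTorsionFree A) (h0 : ¬ IsZero A) (m : A ⟶ G) [Mono m]
    (hGr : Module.finrank (Y.presheaf.stalk (genericPoint Y)) (G.presheaf.stalk (genericPoint Y)) = 1) :
    Module.finrank (Y.presheaf.stalk (genericPoint Y)) (A.presheaf.stalk (genericPoint Y)) = 1 := by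
  have h1 : genericPoint Y ∈ CohB1.support A := by
    rw [Push54.support_eq_univ hA hAt h0]
    trivial
  let k : Type u := Y.functionField
  let i1 : Module k (A.presheaf.stalk (genericPoint Y)) :=
    inferInstanceAs (Module (Y.presheaf.stalk (genericPoint Y)) (A.presheaf.stalk (genericPoint Y)))
  let i2 : Module k (G.presheaf.stalk (genericPoint Y)) :=
    inferInstanceAs (Module (Y.presheaf.stalk (genericPoint Y)) (G.presheaf.stalk (genericPoint Y)))
  have hf1 : Module.Finite k (A.presheaf.stalk (genericPoint Y)) :=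
    CycB.CohStalk.finite_stalk A hA (genericPoint Y)
  have hf2 : Module.Finite k (G.presheaf.stalk (genericPoint Y)) :=
    CycB.CohStalk.finite_stalk G hG (genericPoint Y)
  let l : (A.presheaf.stalk (genericPoint Y)) →ₗ[k] (G.presheaf.stalk (genericPoint Y)) :=
    CycB.StalkExact.stalkLin m (genericPoint Y)
  have hinj : Function.Injective l := CycB.StalkExact.stalkLin_injective m _
  have hle : Module.finrank k (A.presheaf.stalk (genericPoint Y)) ≤
      Module.finrank k (G.presheaf.stalk (genericPoint Y)) := LinearMap.finrank_le_finrank_of_injective hinj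
  have hnt : Nontrivial (A.presheaf.stalk (genericPoint Y)) := not_subsingleton_iff_nontrivial.1 h1
  have hpos : 0 < Module.finrank k (A.presheaf.stalk (genericPoint Y)) := Module.finrank_pos
  have hGr' : Module.finrank k (G.presheaf.stalk (genericPoint Y)) = 1 := hGr
  rw [hGr'] at hle
  exact le_antisymm hle hpos

end Main

/-- Maps from a torsion module to an ideal vanish. -/
theorem eq_zero {Y : Scheme.{u}} [IsIntegral Y] [IsLocallyNoetherian Y] {A : Y.Modules} (D : Y.IdealSheafData)
    (φ : A ⟶ ClSub.idealMod D) (h : genericPoint Y ∉ CohB1.support A) : φ = 0 := by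
  refine K848.TF.eq_zero_of_generic (CohqA.IdealMod.isQCoh_idealMod D) (IdealRestr.isTorsionFree_idealMod D) φ ?_
  have : Subsingleton (A.presheaf.stalk (genericPoint Y)) := not_not.1 h
  ext x
  rw [Subsingleton.elim x 0, map_zero, map_zero]

/-- The special fibre. -/
theorem special {Y : Scheme.{u}} [IsIntegral Y] [IsLocallyNoetherian Y] {F T : Y.Modules} (hT : Coh.IsCoh T)
    (h0 : ¬ IsZero T) (hgen : genericPoint Y ∉ CohB1.support T) (Z W : Y.IdealSheafData)
    [IsIntegral Z.subscheme] (d : ℕ) (hd : topologicalKrullDim ↥Z.subscheme = d) {G : Z.subscheme.Modules}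
    (hG : Coh.IsCoh G) (hGt : TorSh.IsTorsionFree G)
    (hGr : Module.finrank (Z.subscheme.presheaf.stalk (genericPoint Z.subscheme))
        (G.presheaf.stalk (genericPoint Z.subscheme)) = 1)
    (a : (Coh.push Z.subschemeι).obj G ⟶ F) (q : F ⟶ ClSub.idealMod W) (w : a ≫ q = 0)
    (hex : (ShortComplex.mk a q w).ShortExact) (θ : T ⟶ F) [Mono θ] :
    (∃ (A : Z.subscheme.Modules) (m : A ⟶ G) (e : T ≅ (Coh.push Z.subschemeι).obj A),
      Mono m ∧ TorSh.IsTorsionFree A ∧ Module.finrank (Z.subscheme.presheaf.stalk (genericPoint Z.subscheme))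
        (A.presheaf.stalk (genericPoint Z.subscheme)) = 1 ∧
      e.hom ≫ (Coh.push Z.subschemeι).map m ≫ a = θ) ∧ ShStab.IsPure Y T d := by
  have hz : θ ≫ q = 0 := eq_zero W _ hgen
  have hm := hex.mono_f
  obtain ⟨g, hg⟩ : ∃ g : T ⟶ (Coh.push Z.subschemeι).obj G, g ≫ a = θ :=
    ⟨hex.fIsKernel.lift (KernelFork.ofι _ hz), hex.fIsKernel.fac _ WalkingParallelPair.zero⟩
  have hgm : Mono g := by
    have : Mono (g ≫ a) := by rw [hg]; infer_instance
    exact mono_of_mono g a
  obtain ⟨A, m, e, hmm, he, hc⟩ := Push54.exists_push_sub Z (G := G) g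
  have hAt : TorSh.IsTorsionFree A := K848.TF.isTorsionFree_of_mono m hGt
  have hA0 : ¬ IsZero A := fun h => h0 (((Scheme.Modules.pushforward Z.subschemeι).map_isZero h).of_iso e)
  refine ⟨⟨A, m, e, hmm, hAt, finrank_sub (hc hT) hG hAt hA0 m hGr, ?_⟩,
    Push54.isPure_of_iso e (Push54.isPure_push Z hAt hd)⟩
  rw [← hg, ← he, Category.assoc]

/-- The generic fibre is nonzero. -/
theorem ne_zero {Y : Scheme.{u}} [IsIntegral Y] {S : ShortComplex Y.Modules} (hS : S.ShortExact)
    (h2 : ¬ TorSh.IsTorsionFree S.X₂) (h3 : TorSh.IsTorsionFree S.X₃) : ¬ IsZero S.X₁ := by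
  intro h0
  refine h2 (K848.TF.isTorsionFree_extension hS ?_ h3)
  intro x
  have := (S1478.isZero_iff_stalk _).1 h0 x
  exact ⟨fun c _ a b _ => Subsingleton.elim a b⟩

end K981.Thm54
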