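import Groth.Agent.NonPure.K981.ZeroDim
import Groth.Agent.ShStab.K848.Hartogs
import Groth.Agent.Fga.DimCut

/-!
# A zero-dimensional subscheme is determined by the isomorphism class of its ideal
-/

set_option autoImplicit false
universe u
open CategoryTheory CategoryTheory.Limits AlgebraicGeometry TopologicalSpace

namespace K981.Uniq

open Groth.Agent Groth.Agent.CycB.StalkExact Groth.Agent.PerfA.IdealModule

variable {X : Scheme.{u}}

/-- The complement of the support of an ideal. -/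
def cpl (Z : X.IdealSheafData) : X.Opens := ⟨(Z.support : Set X)ᶜ, Z.support.isClosed.isOpen_compl⟩

theorem mem_cpl (Z : X.IdealSheafData) (x : X) : x ∈ cpl Z ↔ x ∉ Z.support := Iff.rfl

section

variable (K : Type u) [Field K] [X.Over (Spec (CommRingCat.of K))]

theorem isClosed_of_mem [LocallyOfFiniteType (X ↘ Spec (CommRingCat.of K))] (Z : X.IdealSheafData)
    [IsFinite (Z.subschemeι ≫ (X ↘ Spec (CommRingCat.of K)))] (x : X) (hx : x ∈ Z.support) :
    IsClosed ({x} : Set X) := by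
  have h1 := IdealHilb.discrete_of_isFinite K (Z.subschemeι ≫ (X ↘ Spec (CommRingCat.of K)))
  obtain ⟨y, rfl⟩ : x ∈ Set.range Z.subschemeι := by rw [Z.range_subschemeι]; exact hx
  have h2 : IsClosed ({y} : Set Z.subscheme) := isClosed_discrete _
  have h3 := Z.subschemeι.isClosedEmbedding.isClosedMap _ h2
  rwa [Set.image_singleton] at h3

theorem big_cpl [IsIntegral X] [LocallyOfFiniteType (X ↘ Spec (CommRingCat.of K))] (hdim : 2 ≤ topologicalKrullDim X)
    (Z : X.IdealSheafData) [IsFinite (Z.subschemeι ≫ (X ↘ Spec (CommRingCat.of K)))] :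
    K848.Hartogs.Big (cpl Z) := by
  intro x hx
  rw [mem_cpl, not_not] at hx
  rw [Fga.DimCut.ringKrullDim_stalk_eq K X x (isClosed_of_mem K Z x hx)]
  exact hdim

end

theorem ne_bot (K : Type u) [Field K] [X.Over (Spec (CommRingCat.of K))]
    [IsIntegral X] [LocallyOfFiniteType (X ↘ Spec (CommRingCat.of K))] (hdim : 2 ≤ topologicalKrullDim X)
    (Z : X.IdealSheafData) [IsFinite (Z.subschemeι ≫ (X ↘ Spec (CommRingCat.of K)))] : Z ≠ ⊥ := by
  rintro rfl
  have h := (big_cpl K hdim (⊥ : X.IdealSheafData)).genericPoint_mem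
  rw [mem_cpl, Scheme.IdealSheafData.support_bot] at h
  exact h trivial

theorem val_incl (Z : X.IdealSheafData) {U : X.Opens} (s : Γ(ClSub.idealMod Z, U)) :
    (ClSub.idealModι Z).app U s = val Z s := rfl

/-- an endomorphism of the structure sheaf is multiplication by a global section -/
theorem app_structure (φ : Coh.structureModule X ⟶ Coh.structureModule X) (U : X.Opens) (a : Γ(X, U)) :
    φ.app U a = a * X.presheaf.map (homOfLE (le_top : U ≤ ⊤)).op (φ.app ⊤ (1 : Γ(X, ⊤))) := by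
  have h1 : φ.app U (1 : Γ(X, U)) = X.presheaf.map (homOfLE (le_top : U ≤ ⊤)).op (φ.app ⊤ (1 : Γ(X, ⊤))) := by
    have h2 := congr($(φ.mapPresheaf.naturality (homOfLE (le_top : U ≤ ⊤)).op) (1 : Γ(X, ⊤)))
    have h3 : X.presheaf.map (homOfLE (le_top : U ≤ ⊤)).op (1 : Γ(X, ⊤)) = 1 := map_one _
    have h4 : φ.app U (X.presheaf.map (homOfLE (le_top : U ≤ ⊤)).op (1 : Γ(X, ⊤))) =
      X.presheaf.map (homOfLE (le_top : U ≤ ⊤)).op (φ.app ⊤ (1 : Γ(X, ⊤))) := h2
    rw [h3] at h4
    exact h4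
  have h5 := Scheme.Modules.Hom.app_smul φ a (1 : Γ(X, U))
  have h6 : (a • (1 : Γ(X, U)) : Γ(X, U)) = a := mul_one a
  have h7 : φ.app U (a • (1 : Γ(X, U)) : Γ(X, U)) = a • φ.app U (1 : Γ(X, U)) := h5
  rw [h6, h1] at h7
  exact h7

section

variable [IsIntegral X] [IsLocallyNoetherian X]

theorem exists_extend (hn : ∀ x : X, IsIntegrallyClosed (X.presheaf.stalk x)) {Z : X.IdealSheafData}
    (hZ : K848.Hartogs.Big (cpl Z)) (ψ : ClSub.idealMod Z ⟶ Coh.structureModule X) :
    ∃ φ : Coh.structureModule X ⟶ Coh.structureModule X, ClSub.idealModι Z ≫ φ = ψ := by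
  have hO : Coh.IsCoh (Coh.structureModule X) := Fdesc.StructMod.isCoh_structureModule _
  have hf : FlatMod.IsFinLocFree (Coh.structureModule X) := fun x => by
    obtain ⟨U, hx, h⟩ :=
      (Ega2.QCohLocal.isFinLocFreeOfRank_one_iff.2 Fdesc.LocGen.isInvertible_structureModule) x
    exact ⟨U, 1, hx, h⟩
  have hi : IsIso ((Scheme.Modules.restrictFunctor (cpl Z).ι).map (ClSub.idealModι Z)) :=
    K848.Hartogs.isIso_restrict_of_stalk _ fun x hx => IdealRestr.stalkLin_idealModι_bijective Z x hx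
  obtain ⟨φ, hφ⟩ := K848.Hartogs.exists_extend hn hZ (F := Coh.structureModule X) hO hf
    (inv ((Scheme.Modules.restrictFunctor (cpl Z).ι).map (ClSub.idealModι Z)) ≫
      (Scheme.Modules.restrictFunctor (cpl Z).ι).map ψ)
  refine ⟨φ, K848.Hartogs.hom_ext_of_big hn hZ hO hf ?_⟩
  rw [Functor.map_comp, hφ, IsIso.hom_inv_id_assoc]

theorem le_of_iso (K : Type u) [Field K] [X.Over (Spec (CommRingCat.of K))]
    (hn : ∀ x : X, IsIntegrallyClosed (X.presheaf.stalk x))
    (hΓ : Function.Surjective (X ↘ Spec (CommRingCat.of K)).appTop)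
    {Z Z' : X.IdealSheafData}
    (hZ : K848.Hartogs.Big (cpl Z)) (e : ClSub.idealMod Z ⟶ ClSub.idealMod Z') (he : e ≠ 0) : Z ≤ Z' := by
  obtain ⟨φ, hφ⟩ := exists_extend hn hZ (e ≫ ClSub.idealModι Z')
  obtain ⟨c', hc'⟩ := hΓ (φ.app ⊤ (1 : Γ(X, ⊤)))
  have key : ∀ (U : X.Opens) (s : Γ(ClSub.idealMod Z, U)), val Z' (e.app U s) =
      val Z s * X.presheaf.map (homOfLE (le_top : U ≤ ⊤)).op ((X ↘ Spec (CommRingCat.of K)).appTop c') := by
    intro U s
    have h1 : φ.app U (val Z s) = val Z' (e.app U s) := congr(Scheme.Modules.Hom.app $hφ U s)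
    rw [← h1, app_structure, hc']
  have hc0 : c' ≠ 0 := by
    intro h0
    apply he
    ext U s
    change e.app U s = 0
    apply val_injective Z'
    have h1 := key U s
    rw [h0, map_zero, map_zero, mul_zero] at h1
    exact h1.trans (map_zero ((ClSub.idealModι Z').app U).hom).symm
  have hF : IsField Γ(Spec (CommRingCat.of K), ⊤) :=
    (Scheme.ΓSpecIso (CommRingCat.of K)).commRingCatIsoToRingEquiv.toMulEquiv.isField (Field.toIsField K)
  obtain ⟨d, hd⟩ := hF.mul_inv_cancel hc0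
  intro V a ha
  obtain ⟨s, rfl⟩ := exists_val_eq Z V ha
  have h1 := key V.1 s
  have h2 : val Z s = X.presheaf.map (homOfLE (le_top : V.1 ≤ ⊤)).op ((X ↘ Spec (CommRingCat.of K)).appTop d) *
      val Z' (e.app V.1 s) := by
    rw [h1, mul_comm, mul_assoc, ← map_mul, ← map_mul, hd, map_one, map_one, mul_one]
  rw [h2]
  exact Ideal.mul_mem_left _ _ (val_mem Z' V _)

end

end K981.Uniq
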