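import Groth.Agent.NonPure.K981.KrullVan
import Groth.Prelude.Def_Omega2

/-!
# The open set where an ideal pulls back to zero
-/

set_option autoImplicit false
universe u

open CategoryTheory CategoryTheory.Limits AlgebraicGeometry TopologicalSpace Opposite
open AlgebraicGeometry.Scheme.Modules hiding pullback
open Groth.Agent

namespace K981.Vanish

variable {Z X : Scheme.{u}} (q : Z ⟶ X) (I : X.IdealSheafData)

/-- The ideal `I` pulls back to zero in the local ring at `z`. -/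
def P (z : Z) : Prop := ∀ (V : X.affineOpens) (hV : q z ∈ V.1), ∀ a ∈ I.ideal V,
  q.stalkMap z (X.presheaf.germ V.1 (q z) hV a) = 0

variable {q I}

theorem P_of_one {z : Z} (V : X.affineOpens) (hV : q z ∈ V.1)
    (h : ∀ a ∈ I.ideal V, q.stalkMap z (X.presheaf.germ V.1 (q z) hV a) = 0) : P q I z := by
  intro V' hV' a ha
  obtain ⟨V₂, hV₂, hz₂, hle⟩ := exists_isAffineOpen_mem_and_subset (x := q z) (U := V.1 ⊓ V'.1) ⟨hV, hV'⟩
  have h1 : V₂ ≤ V.1 := fun _ hx => (hle hx).1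
  have h2 : V₂ ≤ V'.1 := fun _ hx => (hle hx).2
  let θ : Γ(X, V₂) →+* Z.presheaf.stalk z := (q.stalkMap z).hom.comp (X.presheaf.germ V₂ (q z) hz₂).hom
  have h3 : X.presheaf.map (homOfLE h2).op a ∈ I.ideal ⟨V₂, hV₂⟩ :=
    I.ideal_le_comap_ideal (U := ⟨V₂, hV₂⟩) (V := V') h2 ha
  have h4 : I.ideal ⟨V₂, hV₂⟩ ≤ RingHom.ker θ := by
    rw [← I.map_ideal (U := ⟨V₂, hV₂⟩) (V := V) h1, Ideal.map_le_iff_le_comap]
    intro b hb
    rw [Ideal.mem_comap, RingHom.mem_ker]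
    change q.stalkMap z (X.presheaf.germ V₂ (q z) hz₂ (X.presheaf.map (homOfLE h1).op b)) = 0
    rw [TopCat.Presheaf.germ_res_apply]
    exact h b hb
  have h5 := h4 h3
  rw [RingHom.mem_ker] at h5
  change q.stalkMap z (X.presheaf.germ V₂ (q z) hz₂ (X.presheaf.map (homOfLE h2).op a)) = 0 at h5
  rw [TopCat.Presheaf.germ_res_apply] at h5
  exact h5

/-- finitely many sections -/
theorem exists_nhd {z : Z} (V : X.affineOpens) (hV : z ∈ q ⁻¹ᵁ V.1) (hfg : (I.ideal V).FG)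
    (h : ∀ a ∈ I.ideal V, Z.presheaf.germ (q ⁻¹ᵁ V.1) z hV (q.app V.1 a) = 0) :
    ∃ (W : Z.Opens) (_ : z ∈ W) (hW : W ≤ q ⁻¹ᵁ V.1), ∀ a ∈ I.ideal V,
      Z.presheaf.map (homOfLE hW).op (q.app V.1 a) = 0 := by
  obtain ⟨s, hs⟩ := hfg
  have h1 : ∀ a ∈ s, ∃ (W : Z.Opens) (_ : z ∈ W) (hW : W ≤ q ⁻¹ᵁ V.1),
      Z.presheaf.map (homOfLE hW).op (q.app V.1 a) = 0 := by
    intro a ha
    have h2 := h a (by rw [← hs]; exact Ideal.subset_span ha)
    obtain ⟨W, hzW, i₁, i₂, h3⟩ := Z.presheaf.germ_eq z hV hV (q.app V.1 a) 0 (by rw [h2, map_zero])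
    rw [map_zero] at h3
    exact ⟨W, hzW, i₁.le, h3⟩
  classical
  have h4 : ∀ s' : Finset Γ(X, V.1), (∀ a ∈ s', ∃ (W : Z.Opens) (_ : z ∈ W) (hW : W ≤ q ⁻¹ᵁ V.1),
      Z.presheaf.map (homOfLE hW).op (q.app V.1 a) = 0) →
      ∃ (W : Z.Opens) (_ : z ∈ W) (hW : W ≤ q ⁻¹ᵁ V.1), ∀ a ∈ s',
        Z.presheaf.map (homOfLE hW).op (q.app V.1 a) = 0 := by
    intro s'
    induction s' using Finset.induction_on with
    | empty => exact fun _ => ⟨q ⁻¹ᵁ V.1, hV, le_rfl, fun a ha => absurd ha (Finset.notMem_empty a)⟩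
    | insert b s' _ ih =>
      intro h5
      obtain ⟨W₁, hz₁, hW₁, h6⟩ := ih fun a ha => h5 a (Finset.mem_insert_of_mem ha)
      obtain ⟨W₂, hz₂, hW₂, h7⟩ := h5 b (Finset.mem_insert_self _ _)
      refine ⟨W₁ ⊓ W₂, ⟨hz₁, hz₂⟩, inf_le_left.trans hW₁, fun a ha => ?_⟩
      rcases Finset.mem_insert.mp ha with rfl | ha
      · have h8 : Z.presheaf.map (homOfLE (inf_le_left.trans hW₁ : W₁ ⊓ W₂ ≤ q ⁻¹ᵁ V.1)).op =
            Z.presheaf.map (homOfLE hW₂).op ≫ Z.presheaf.map (homOfLE (inf_le_right : W₁ ⊓ W₂ ≤ W₂)).op := by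
          rw [← Functor.map_comp]
          rfl
        rw [h8, CommRingCat.comp_apply, h7, map_zero]
      · have h8 : Z.presheaf.map (homOfLE (inf_le_left.trans hW₁ : W₁ ⊓ W₂ ≤ q ⁻¹ᵁ V.1)).op =
            Z.presheaf.map (homOfLE hW₁).op ≫ Z.presheaf.map (homOfLE (inf_le_left : W₁ ⊓ W₂ ≤ W₁)).op := by
          rw [← Functor.map_comp]
          rfl
        rw [h8, CommRingCat.comp_apply, h6 a ha, map_zero]
  obtain ⟨W, hzW, hW, h5⟩ := h4 s h1
  refine ⟨W, hzW, hW, fun a ha => ?_⟩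
  let θ : Γ(X, V.1) →+* Γ(Z, W) := (Z.presheaf.map (homOfLE hW).op).hom.comp (q.app V.1).hom
  have h6 : I.ideal V ≤ RingHom.ker θ := by
    rw [← hs]
    exact Ideal.span_le.mpr fun b hb => h5 b hb
  exact h6 ha

/-- The locus `P` is open. -/
theorem isOpen_P [IsLocallyNoetherian X] : IsOpen {z : Z | P q I z} := by
  rw [isOpen_iff_forall_mem_open]
  intro z hz
  obtain ⟨V₀, hV₀, hzV₀, -⟩ := exists_isAffineOpen_mem_and_subset (x := q z) (U := ⊤) trivial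
  obtain ⟨V, hzV⟩ : ∃ V : X.affineOpens, z ∈ q ⁻¹ᵁ V.1 := ⟨⟨V₀, hV₀⟩, hzV₀⟩
  have hN : IsNoetherianRing Γ(X, V.1) := IsLocallyNoetherian.component_noetherian V
  obtain ⟨W, hzW, hW, h⟩ := exists_nhd (q := q) (I := I) V hzV (IsNoetherian.noetherian _) (fun a ha =>
    (Scheme.Hom.germ_stalkMap_apply q V.1 z hzV a).symm.trans (hz V hzV a ha))
  refine ⟨W, fun z' hz' => ?_, W.2, hzW⟩
  refine P_of_one V (hW hz') fun a ha => ?_
  refine (Scheme.Hom.germ_stalkMap_apply q V.1 z' (hW hz') a).trans ?_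
  rw [← Z.presheaf.germ_res_apply (homOfLE hW) z' hz', h a ha, map_zero]

/-- Morphisms with image in the locus `P` factor through the closed subscheme. -/
theorem exists_lift {Y : Scheme.{u}} (i : Y ⟶ X) [IsClosedImmersion i] {T : Scheme.{u}} (j : T ⟶ Z)
    (h : ∀ t : T, P q i.ker (j t)) : ∃ y : T ⟶ Y, y ≫ i = j ≫ q := by
  have h1 : i.ker ≤ (j ≫ q).ker := by
    refine Scheme.IdealSheafData.le_ofIdeals_iff.mpr fun V a ha => ?_
    rw [RingHom.mem_ker]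
    refine TopCat.Presheaf.section_ext T.sheaf _ _ _ fun t ht => ?_
    have ht' : j t ∈ q ⁻¹ᵁ V.1 := ht
    have h2 : q.stalkMap (j t) (X.presheaf.germ V.1 (q (j t)) ht' a) = 0 := h t V ht' a ha
    have h3 := Scheme.Hom.germ_stalkMap_apply q V.1 (j t) ht' a
    rw [h2] at h3
    have h4 := Scheme.Hom.germ_stalkMap_apply j (q ⁻¹ᵁ V.1) t ht' (q.app V.1 a)
    rw [← h3, map_zero] at h4
    refine Eq.trans ?_ (map_zero _).symm
    exact h4.symm
  exact ⟨IsClosedImmersion.lift i (j ≫ q) h1, IsClosedImmersion.lift_fac _ _ _⟩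

end K981.Vanish
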